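import Groth.Prelude.Def_ParBun
import Groth.Agent.Dcoh.StalkT
import Groth.Agent.CycB.StalkExact
import Groth.Agent.CohqB.DevSupport
import Groth.Agent.VarietyB.DegCartier

/-!
# Right exactness of the tensor product and the support of `E / I·E`
-/

set_option autoImplicit false
universe u
open CategoryTheory CategoryTheory.Limits AlgebraicGeometry TensorProduct

namespace K958.TwistSupp

open Groth.Agent Groth.Agent.CycB.StalkExact Groth.Agent.CohqB.DevSupport

variable {X : Scheme.{u}}

/-- The stalk of `M ⊗ N` is the tensor product of the stalks. -/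
noncomputable def tensorModStalk (M N : X.Modules) (x : X) :
    (CohB1.tensorMod M N).presheaf.stalk x ≃ₗ[X.presheaf.stalk x]
      (M.presheaf.stalk x) ⊗[X.presheaf.stalk x] (N.presheaf.stalk x) :=
  (Dcoh.Stalk.tensorStalkIso M N x).toLinearEquiv

theorem subsingleton_stalk_tensor_right (M N : X.Modules) (x : X) (h : Subsingleton (N.presheaf.stalk x)) :
    Subsingleton ((CohB1.tensorMod M N).presheaf.stalk x) :=
  (tensorModStalk M N x).toEquiv.subsingleton

theorem subsingleton_stalk_tensor_left (M N : X.Modules) (x : X) (h : Subsingleton (M.presheaf.stalk x)) :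
    Subsingleton ((CohB1.tensorMod M N).presheaf.stalk x) :=
  (tensorModStalk M N x).toEquiv.subsingleton

theorem support_tensor_subset (M N : X.Modules) :
    CohB1.support (CohB1.tensorMod M N) ⊆ CohB1.support M ∩ CohB1.support N := fun x hx =>
  ⟨fun h => hx (subsingleton_stalk_tensor_left M N x h), fun h => hx (subsingleton_stalk_tensor_right M N x h)⟩

/-- `M ⊗ -` is right exact. -/
theorem exact_tensor (M : X.Modules) (S : ShortComplex X.Modules) (hS : S.Exact) [Epi S.g] :
    (S.map (DCoh.tensorBi.obj M)).Exact ∧ Epi ((DCoh.tensorBi.obj M).map S.g) :=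
  ⟨hS.map_of_epi_of_preservesCokernel _ inferInstance inferInstance, inferInstance⟩

/-- `I ⊗ E → E` is surjective on stalks outside the support of `I`. -/
theorem surjective_stalk_twistMap (I : X.IdealSheafData) (E : X.Modules) {x : X}
    (hx : x ∉ (I.support : Set X)) : Function.Surjective (stalkLin (ParSh.twistMap I E) x) := by
  have hS := VarietyB.DegCartier.idealSeq_shortExact I
  have hepi : Epi (VarietyB.DegCartier.idealSeq I).g := hS.epi_g
  have h1 := (exact_tensor E _ hS.exact).1
  have h2 := stalkLin_exact _ h1 x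
  have h3 : Subsingleton ((ClSub.quotMod I).presheaf.stalk x) := by
    rw [← not_mem_support_iff]
    exact fun h => hx (VarietyB.DegCartier.support_quotMod_subset I h)
  have h4 : Subsingleton ((CohB1.tensorMod E (ClSub.quotMod I)).presheaf.stalk x) :=
    subsingleton_stalk_tensor_right E _ x h3
  have h5 : Function.Surjective (stalkLin ((DCoh.tensorBi.obj E).map (ClSub.idealModι I)) x) := fun y =>
    (h2 y).1 (@Subsingleton.elim _ h4 _ _)
  have h6 : (DCoh.tensorBi.obj E).map (ClSub.idealModι I) = KoszTw.tensorMap (𝟙 E) (ClSub.idealModι I) :=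
    KoszTw.tensorBi_obj_map E (ClSub.idealModι I)
  have h7 : Function.Surjective (stalkLin (KoszTw.tensorMap (𝟙 E) (ClSub.idealModι I)) x) := by
    have h8 : stalkLin (KoszTw.tensorMap (𝟙 E) (ClSub.idealModι I)) x =
        stalkLin ((DCoh.tensorBi.obj E).map (ClSub.idealModι I)) x := congrArg (fun t => stalkLin t x) h6.symm
    rw [h8]
    exact h5
  have h9 : stalkLin (ParSh.twistMap I E) x =
      (stalkLin (SecTwist.unitorR E).hom x).comp (stalkLin (KoszTw.tensorMap (𝟙 E) (ClSub.idealModι I)) x) :=
    stalkLin_comp _ _ x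
  rw [h9]
  exact (stalkLin_surjective (SecTwist.unitorR E).hom x).comp h7

/-- `Supp (E / I·E) ⊆ Supp E ∩ V(I)`. -/
theorem support_cokernel_twistSub (I : X.IdealSheafData) (E : X.Modules) :
    CohB1.support (cokernel (ParSh.twistSub I E).arrow) ⊆ CohB1.support E ∩ (I.support : Set X) := by
  intro x hx
  refine ⟨support_subset_of_epi (cokernel.π (ParSh.twistSub I E).arrow) hx, ?_⟩
  by_contra hxI
  refine hx ?_
  have h1 := surjective_stalk_twistMap I E hxI
  have h2 : ParSh.twistMap I E ≫ cokernel.π (ParSh.twistSub I E).arrow = 0 := by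
    rw [← imageSubobject_arrow_comp (ParSh.twistMap I E), Category.assoc]
    have h3 : (imageSubobject (ParSh.twistMap I E)).arrow ≫ cokernel.π (ParSh.twistSub I E).arrow = 0 :=
      cokernel.condition _
    rw [h3, comp_zero]
  have h4 := stalkLin_surjective (cokernel.π (ParSh.twistSub I E).arrow) x
  refine ⟨fun a b => ?_⟩
  have key : ∀ a : (cokernel (ParSh.twistSub I E).arrow).presheaf.stalk x, a = 0 := by
    intro a
    obtain ⟨e, rfl⟩ := h4 a
    obtain ⟨t, rfl⟩ := h1 e
    have h5 := LinearMap.congr_fun (stalkLin_comp (ParSh.twistMap I E) (cokernel.π (ParSh.twistSub I E).arrow) x) t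
    rw [LinearMap.comp_apply] at h5
    rw [← h5, h2]
    have h6 : (stalkFun x).map (0 : CohB1.tensorMod E (ClSub.idealMod I) ⟶ cokernel (ParSh.twistSub I E).arrow) = 0 :=
      (stalkFun x).map_zero _ _
    have h7 := coe_stalkLin (0 : CohB1.tensorMod E (ClSub.idealMod I) ⟶ cokernel (ParSh.twistSub I E).arrow) x
    rw [h7, h6]
    rfl
  rw [key a, key b]

/-- If `I·E ≤ P ≤ E` then `Supp (E/P) ⊆ Supp E ∩ V(I)`. -/
theorem support_cokernel_subset (I : X.IdealSheafData) (E : X.Modules) (P : Subobject E)
    (hP : ParSh.twistSub I E ≤ P) :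
    CohB1.support (cokernel P.arrow) ⊆ CohB1.support E ∩ (I.support : Set X) := by
  have w : (ParSh.twistSub I E).arrow ≫ cokernel.π P.arrow = 0 := by
    rw [← Subobject.ofLE_arrow hP, Category.assoc, cokernel.condition, comp_zero]
  let φ : cokernel (ParSh.twistSub I E).arrow ⟶ cokernel P.arrow := cokernel.desc _ (cokernel.π P.arrow) w
  have : Epi φ := by
    have h : cokernel.π (ParSh.twistSub I E).arrow ≫ φ = cokernel.π P.arrow := cokernel.π_desc _ _ _
    exact epi_of_epi_fac h
  exact (support_subset_of_epi φ).trans (support_cokernel_twistSub I E)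

end K958.TwistSupp
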