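import Groth.Prelude.Def_W4swparbununimodPar
import Mathlib.Algebra.Module.BigOperators
import Mathlib.Tactic

/-!
# Abel summation for weighted filtrations
-/

set_option autoImplicit false
universe v u

open CategoryTheory CategoryTheory.Limits

namespace K958.Abel

variable {C : Type u} [Category.{v} C] {E : C} (𝓔 : ParSh.Str E)

/-- The increments `w_{j+1} - w_j` of the extended weights (`w_{l+1} = 1`). -/
noncomputable def dw (j : Fin (𝓔.l + 1)) : ℝ := 𝓔.wtX j.succ - 𝓔.wtX j.castSucc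

theorem wtX_succ_last : 𝓔.wtX (Fin.last 𝓔.l).succ = 1 := by
  rw [Fin.succ_last]; exact 𝓔.wtX_last

theorem wtX_zero : 𝓔.wtX 0 = 𝓔.wt 0 := by
  have h : (0 : Fin (𝓔.l + 2)) = Fin.castSucc 0 := rfl
  rw [h, 𝓔.wtX_castSucc]

theorem pieceX_zero : 𝓔.pieceX 0 = 𝓔.piece 0 := by
  have h : (0 : Fin (𝓔.l + 2)) = Fin.castSucc 0 := rfl
  rw [h, 𝓔.pieceX_castSucc]

theorem pieceX_zero_eq_top : 𝓔.pieceX 0 = ⊤ := by rw [pieceX_zero, 𝓔.piece_zero]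

theorem wt_nonneg (j : Fin (𝓔.l + 1)) : 0 ≤ 𝓔.wt j :=
  𝓔.wt_nonneg.trans (𝓔.wt_strictMono.monotone (Fin.zero_le j))

theorem wt_lt_one (j : Fin (𝓔.l + 1)) : 𝓔.wt j < 1 :=
  (𝓔.wt_strictMono.monotone (Fin.le_last j)).trans_lt 𝓔.wt_lt_one

theorem dw_pos (j : Fin (𝓔.l + 1)) : 0 < dw 𝓔 j := by
  unfold dw
  rw [sub_pos]
  induction j using Fin.lastCases with
  | last =>
    rw [wtX_succ_last, 𝓔.wtX_castSucc]
    exact 𝓔.wt_lt_one
  | cast j =>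
    rw [Fin.succ_castSucc, 𝓔.wtX_castSucc, 𝓔.wtX_castSucc]
    exact 𝓔.wt_strictMono (Fin.castSucc_lt_succ)

theorem pieceX_anti : Antitone 𝓔.pieceX := by
  intro i j hij
  induction j using Fin.lastCases with
  | last => rw [𝓔.pieceX_last]; exact 𝓔.bot_le_pieceX i
  | cast j =>
    induction i using Fin.lastCases with
    | last => exact absurd hij (not_le.2 (Fin.castSucc_lt_last j))
    | cast i =>
      rw [𝓔.pieceX_castSucc, 𝓔.pieceX_castSucc]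
      exact 𝓔.piece_anti (Fin.castSucc_le_castSucc_iff.1 hij)

section

variable {M : Type*} [AddCommGroup M] [Module ℝ M]

theorem abel (g : Fin (𝓔.l + 2) → M) :
    g (Fin.last (𝓔.l + 1)) + ∑ j : Fin (𝓔.l + 1), 𝓔.wt j • (g j.castSucc - g j.succ) =
      𝓔.wt 0 • g 0 + ∑ j : Fin (𝓔.l + 1), dw 𝓔 j • g j.succ := by
  have h1 := Fin.sum_univ_succ (fun i : Fin (𝓔.l + 2) => 𝓔.wtX i • g i)
  have h2 := Fin.sum_univ_castSucc (fun i : Fin (𝓔.l + 2) => 𝓔.wtX i • g i)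
  rw [wtX_zero] at h1
  simp only [𝓔.wtX_last, one_smul, 𝓔.wtX_castSucc] at h2
  have h3 : ∑ j : Fin (𝓔.l + 1), 𝓔.wt j • (g j.castSucc - g j.succ) =
      ∑ j : Fin (𝓔.l + 1), 𝓔.wt j • g j.castSucc - ∑ j : Fin (𝓔.l + 1), 𝓔.wt j • g j.succ := by
    rw [← Finset.sum_sub_distrib]
    exact Finset.sum_congr rfl fun j _ => smul_sub _ _ _
  have h4 : ∑ j : Fin (𝓔.l + 1), dw 𝓔 j • g j.succ =
      ∑ j : Fin (𝓔.l + 1), 𝓔.wtX j.succ • g j.succ - ∑ j : Fin (𝓔.l + 1), 𝓔.wt j • g j.succ := by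
    rw [← Finset.sum_sub_distrib]
    refine Finset.sum_congr rfl fun j _ => ?_
    rw [dw, sub_smul, 𝓔.wtX_castSucc]
  rw [h3, h4]
  have h5 := h1.symm.trans h2
  -- wt 0 • g 0 + A = B + g last
  have h6 : ∑ j : Fin (𝓔.l + 1), 𝓔.wtX j.succ • g j.succ =
      ∑ j : Fin (𝓔.l + 1), 𝓔.wt j • g j.castSucc + g (Fin.last (𝓔.l + 1)) - 𝓔.wt 0 • g 0 := by
    rw [← h5]; abel
  rw [h6]
  abel

theorem sum_dw : ∑ j : Fin (𝓔.l + 1), dw 𝓔 j = 1 - 𝓔.wt 0 := by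
  have h := abel 𝓔 (fun _ => (1 : ℝ))
  simp only [sub_self, smul_eq_mul, mul_one, mul_zero, Finset.sum_const_zero, add_zero] at h
  linarith

theorem sum_dw' : 𝓔.wt 0 + ∑ j : Fin (𝓔.l + 1), dw 𝓔 j = 1 := by
  rw [sum_dw]; ring

end

open W4swparbununimod

theorem parSum_eq (f : C → ℝ) :
    𝓔.parSum f = 𝓔.wt 0 * f (𝓔.pieceX 0 : C) + ∑ j : Fin (𝓔.l + 1), dw 𝓔 j * f (𝓔.pieceX j.succ : C) := by
  have h := abel 𝓔 (fun i => f (𝓔.pieceX i : C))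
  simp only [smul_eq_mul, 𝓔.pieceX_last, 𝓔.pieceX_castSucc] at h
  exact h

theorem parPoly_eq (PX : Fin (𝓔.l + 2) → Polynomial ℚ) :
    parPoly 𝓔 PX = Polynomial.C (𝓔.wt 0) * rpoly (PX 0) +
      ∑ j : Fin (𝓔.l + 1), Polynomial.C (dw 𝓔 j) * rpoly (PX j.succ) := by
  have h := abel 𝓔 (fun i => rpoly (PX i))
  simp only [Polynomial.smul_eq_C_mul] at h
  exact h

theorem parPoly_coeff (PX : Fin (𝓔.l + 2) → Polynomial ℚ) (n : ℕ) :
    (parPoly 𝓔 PX).coeff n = 𝓔.wt 0 * ((PX 0).coeff n : ℝ) +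
      ∑ j : Fin (𝓔.l + 1), dw 𝓔 j * ((PX j.succ).coeff n : ℝ) := by
  rw [parPoly_eq, Polynomial.coeff_add, Polynomial.finsetSum_coeff]
  simp only [Polynomial.coeff_C_mul, Polynomial.coeff_map, eq_ratCast]

theorem rpoly_eval (P : Polynomial ℚ) (m : ℕ) : (rpoly P).eval (m : ℝ) = ((P.eval (m : ℚ) : ℚ) : ℝ) := by
  simp

theorem parPoly_eval (PX : Fin (𝓔.l + 2) → Polynomial ℚ) (m : ℕ) :
    (parPoly 𝓔 PX).eval (m : ℝ) = 𝓔.wt 0 * (((PX 0).eval (m : ℚ) : ℚ) : ℝ) +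
      ∑ j : Fin (𝓔.l + 1), dw 𝓔 j * (((PX j.succ).eval (m : ℚ) : ℚ) : ℝ) := by
  rw [parPoly_eq, Polynomial.eval_add, Polynomial.eval_finsetSum]
  simp only [Polynomial.eval_mul, Polynomial.eval_C, rpoly_eval]

end K958.Abel
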