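import Groth.Agent.ParSh.K958.HilbX
import Groth.Agent.Fga.IntNum0

/-!
# Hilbert polynomials of coherent modules are eventually nonnegative
-/

set_option autoImplicit false
universe u
open CategoryTheory CategoryTheory.Limits AlgebraicGeometry Polynomial

namespace K958.HilbPos

open Groth.Agent

variable {k : Type u} [Field k] {X : Scheme.{u}} [X.Over (Spec (CommRingCat.of k))]
  [IsProper (X ↘ Spec (CommRingCat.of k))]

omit [IsProper (X ↘ Spec (CommRingCat.of k))] in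
theorem euler_nonneg {F : X.Modules} (h : ∀ p : ℕ, 0 < p → Subsingleton (Coh.HH X F p)) :
    0 ≤ Curv2.euler k X F := by
  unfold Curv2.euler
  rw [finsum_eq_single _ 0 fun n hn => ?_]
  · simp
  · have := h n (Nat.pos_of_ne_zero hn)
    rw [Module.finrank_zero_of_subsingleton]
    simp

/-- `P(m) ≥ 0` for large `m`. -/
theorem eval_nonneg {L : X.Modules} (hL : CohB1.IsAmple L) {F : X.Modules} (hF : Coh.IsCoh F) {P : ℚ[X]}
    (hP : ShStab.IsHilbPoly k X L F P) : ∃ M : ℕ, ∀ m : ℕ, M ≤ m → 0 ≤ P.eval (m : ℚ) := by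
  obtain ⟨M, hM⟩ := (S0051.result k X (X ↘ Spec (CommRingCat.of k)) L hL.1).1 hL F hF
  refine ⟨M, fun m hm => ?_⟩
  rw [← hP m]
  exact_mod_cast euler_nonneg (k := k) (hM m hm)

theorem polyLE_zero {L : X.Modules} (hL : CohB1.IsAmple L) {F : X.Modules} (hF : Coh.IsCoh F) {P : ℚ[X]}
    (hP : ShStab.IsHilbPoly k X L F P) : StabCat.PolyLE 0 P := by
  obtain ⟨M, hM⟩ := eval_nonneg hL hF hP
  exact ⟨M, fun m hm => by simpa using hM m hm⟩

theorem coeff_nonneg {L : X.Modules} (hL : CohB1.IsAmple L) {F : X.Modules} (hF : Coh.IsCoh F) {d : ℕ}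
    (hd : topologicalKrullDim (CohB1.support F) ≤ d) {P : ℚ[X]} (hP : ShStab.IsHilbPoly k X L F P) :
    0 ≤ P.coeff d := by
  refine K847.PolyOrd.coeff_nonneg_of_leadingCoeff_nonneg (HilbX.natDegree_le hL.1 hF hd hP) ?_
  have h := polyLE_zero hL hF hP
  rw [K847.PolyOrd.polyLE_iff, sub_zero] at h
  exact h

theorem alpha_nonneg {L : X.Modules} (hL : CohB1.IsAmple L) {F : X.Modules} (hF : Coh.IsCoh F) {d : ℕ}
    (hd : topologicalKrullDim (CohB1.support F) ≤ d) {P : ℚ[X]} (hP : ShStab.IsHilbPoly k X L F P) :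
    0 ≤ StabCat.alpha d P :=
  mul_nonneg (by positivity) (coeff_nonneg hL hF hd hP)

theorem dim_le_pred {T : Type u} [TopologicalSpace T] {d : ℕ} (hd1 : 1 ≤ d)
    (hd : topologicalKrullDim T < (d : WithBot ℕ∞)) : topologicalKrullDim T ≤ ((d - 1 : ℕ) : WithBot ℕ∞) := by
  refine Fga.IntNum0.withBot_le_of_lt_succ ?_
  rwa [Nat.sub_add_cancel hd1]

theorem coeff_pred_nonneg {L : X.Modules} (hL : CohB1.IsAmple L) {F : X.Modules} (hF : Coh.IsCoh F) {d : ℕ}
    (hd1 : 1 ≤ d) (hd : topologicalKrullDim (CohB1.support F) < (d : WithBot ℕ∞)) {P : ℚ[X]}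
    (hP : ShStab.IsHilbPoly k X L F P) : 0 ≤ P.coeff (d - 1) :=
  coeff_nonneg hL hF (dim_le_pred hd1 hd) hP

end K958.HilbPos
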