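import Mathlib.Analysis.Polynomial.Basic
import Mathlib.Analysis.SpecificLimits.Basic
import Mathlib.Tactic

/-!
# Values of a real polynomial at large natural numbers and its top coefficient
-/

set_option autoImplicit false

open Polynomial Filter Topology

namespace K958.RealPoly

theorem tendsto_div_pow {P : ℝ[X]} {n : ℕ} (h : P.natDegree ≤ n) :
    Tendsto (fun m : ℕ => P.eval (m : ℝ) / (m : ℝ) ^ n) atTop (𝓝 (P.coeff n)) := by
  have h1 : ∀ m : ℕ, P.eval (m : ℝ) / (m : ℝ) ^ n =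
      ∑ i ∈ Finset.range (n + 1), P.coeff i * ((m : ℝ) ^ i / (m : ℝ) ^ n) := by
    intro m
    rw [Polynomial.eval_eq_sum_range' (Nat.lt_succ_of_le h), Finset.sum_div]
    exact Finset.sum_congr rfl fun i _ => by rw [mul_div_assoc]
  simp only [h1]
  have h2 : ∀ i ∈ Finset.range (n + 1), Tendsto (fun m : ℕ => P.coeff i * ((m : ℝ) ^ i / (m : ℝ) ^ n)) atTop
      (𝓝 (if i = n then P.coeff n else 0)) := by
    intro i hi
    have hi' : i ≤ n := Nat.lt_succ_iff.1 (Finset.mem_range.1 hi)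
    rcases eq_or_lt_of_le hi' with rfl | hlt
    · rw [if_pos rfl]
      refine (tendsto_const_nhds).congr' ?_
      filter_upwards [eventually_ge_atTop 1] with m hm
      have : (m : ℝ) ^ i ≠ 0 := pow_ne_zero _ (by positivity)
      rw [div_self this, mul_one]
    · rw [if_neg hlt.ne]
      have h3 : Tendsto (fun m : ℕ => (m : ℝ) ^ i / (m : ℝ) ^ n) atTop (𝓝 0) :=
        (tendsto_pow_div_pow_atTop_zero hlt).comp tendsto_natCast_atTop_atTop
      simpa using h3.const_mul (P.coeff i)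
  have h4 := tendsto_finsetSum (Finset.range (n + 1)) h2
  have h5 : ∑ i ∈ Finset.range (n + 1), (if i = n then P.coeff n else 0) = P.coeff n := by
    rw [Finset.sum_ite_eq' (Finset.range (n + 1)) n]
    simp
  rwa [h5] at h4

theorem coeff_nonneg {P : ℝ[X]} {n : ℕ} (h : P.natDegree ≤ n) {M : ℕ}
    (hM : ∀ m : ℕ, M ≤ m → 0 ≤ P.eval (m : ℝ)) : 0 ≤ P.coeff n := by
  refine ge_of_tendsto (tendsto_div_pow h) ?_
  filter_upwards [eventually_ge_atTop M] with m hm
  exact div_nonneg (hM m hm) (by positivity)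

theorem eventually_pos {P : ℝ[X]} {n : ℕ} (h : P.natDegree ≤ n) (hc : 0 < P.coeff n) :
    ∃ M : ℕ, ∀ m : ℕ, M ≤ m → 0 < P.eval (m : ℝ) := by
  have h1 := (tendsto_div_pow h).eventually (eventually_gt_nhds hc)
  obtain ⟨M, hM⟩ := (h1.and (eventually_ge_atTop 1)).exists_forall_of_atTop
  refine ⟨M, fun m hm => ?_⟩
  obtain ⟨h2, h3⟩ := hM m hm
  have h4 : 0 < (m : ℝ) ^ n := by positivity
  by_contra hcon
  exact absurd h2 (not_lt.2 (div_nonpos_of_nonpos_of_nonneg (not_lt.1 hcon) h4.le))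

theorem natDegree_le_pred {P : ℝ[X]} {d : ℕ} (hd : 1 ≤ d) (h : ∀ n, d ≤ n → P.coeff n = 0) :
    P.natDegree ≤ d - 1 :=
  Polynomial.natDegree_le_iff_coeff_eq_zero.2 fun N hN => h N (by omega)

end K958.RealPoly
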