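import Groth.Agent.ParSh.K958.StrCoh
import Groth.Agent.ShStab.K846.Acc
import Groth.Agent.Sga2lef.H85.ConnDimChain
import Groth.Agent.S0020

/-!
# Saturation of a coherent submodule of a pure coherent module
-/

set_option autoImplicit false
universe u
open CategoryTheory CategoryTheory.Limits AlgebraicGeometry

namespace K958.Satur

open Groth.Agent Groth.Agent.CohqB.DevSupport K958.Abel K958.StrX K958.StrCoh Groth.Agent.CycB.StalkExact

theorem dim_mono {T : Type u} [TopologicalSpace T] {A B : Set T} (h : A ⊆ B) :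
    topologicalKrullDim A ≤ topologicalKrullDim B := Fga.DimLt.topologicalKrullDim_mono h

theorem dim_union_lt {T : Type u} [TopologicalSpace T] {A B : Set T} (hA : IsClosed A) (hB : IsClosed B)
    (d : ℕ) (h1 : topologicalKrullDim A < (d : WithBot ℕ∞)) (h2 : topologicalKrullDim B < (d : WithBot ℕ∞)) :
    topologicalKrullDim ↥(A ∪ B) < (d : WithBot ℕ∞) := by
  refine Sga2lef.H85.ConnDimChain.dim_lt_of_subset_sUnion {A, B} (by simp) ?_ ?_ d ?_
  · rintro s (rfl | rfl)
    · exact hA
    · exact hB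
  · rw [Set.sUnion_pair]
  · rintro s (rfl | rfl)
    · exact h1
    · exact h2

theorem dim_empty_lt {T : Type u} [TopologicalSpace T] (d : ℕ) :
    topologicalKrullDim ↥(∅ : Set T) < (d : WithBot ℕ∞) := by
  have h : topologicalKrullDim ↥(∅ : Set T) = ⊥ := by
    have : IsEmpty (TopologicalSpace.IrreducibleCloseds ↥(∅ : Set T)) :=
      ⟨fun Z => by obtain ⟨x, _⟩ := Z.2.1; exact x.2.elim⟩
    exact Order.krullDim_eq_bot
  rw [h]
  exact WithBot.bot_lt_coe _

variable {X : Scheme.{u}}

theorem isClosed_support {M : X.Modules} (hM : Coh.IsCoh M) : IsClosed (CohB1.support M) :=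
  Groth.Agent.S0020.result X M hM.2

theorem dim_support_of_isZero {F : X.Modules} (h : IsZero F) (d : ℕ) :
    topologicalKrullDim (CohB1.support F) < (d : WithBot ℕ∞) := by
  rw [support_eq_empty_of_isZero h]
  exact dim_empty_lt d

/-- The dimension of the support of a pure coherent module is at most `d`. -/
theorem dim_support_le_of_isPure {E : X.Modules} (hE : Coh.IsCoh E) {d : ℕ} (hp : ShStab.IsPure X E d) :
    topologicalKrullDim (CohB1.support E) ≤ (d : WithBot ℕ∞) := by
  by_cases h0 : IsZero E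
  · exact (dim_support_of_isZero h0 d).le
  · exact (hp E (𝟙 E) inferInstance hE h0).le

theorem isPure_of_mono {E F : X.Modules} (ι : F ⟶ E) [Mono ι] {d : ℕ} (hp : ShStab.IsPure X E d) :
    ShStab.IsPure X F d := fun G κ _ hG hG0 => hp G (κ ≫ ι) inferInstance hG hG0

theorem isPure_of_isZero {E : X.Modules} (h : IsZero E) (d : ℕ) : ShStab.IsPure X E d :=
  fun _ κ _ _ hG0 => (hG0 (h.of_mono κ)).elim

theorem isPure_of_iso {E F : X.Modules} (e : E ≅ F) {d : ℕ} (hp : ShStab.IsPure X E d) :
    ShStab.IsPure X F d := isPure_of_mono e.inv hp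

theorem support_trans {E : X.Modules} {P Q R : Subobject E} (hPQ : P ≤ Q) (hQR : Q ≤ R) :
    CohB1.support (cokernel (Subobject.ofLE P R (hPQ.trans hQR))) ⊆
      CohB1.support (cokernel (Subobject.ofLE P Q hPQ)) ∪ CohB1.support (cokernel (Subobject.ofLE Q R hQR)) := by
  intro x hx
  by_contra hcon
  rw [Set.mem_union, not_or, not_mem_support_iff, not_mem_support_iff] at hcon
  obtain ⟨h1, h2⟩ := hcon
  refine hx ?_
  have e1 := stalkLin_exact _ (shortExact_ofLE hPQ).exact x
  have e2 := stalkLin_exact _ (shortExact_ofLE hQR).exact x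
  have e3 := stalkLin_exact _ (shortExact_ofLE (hPQ.trans hQR)).exact x
  have s3 := stalkLin_surjective (cokernel.π (Subobject.ofLE P R (hPQ.trans hQR))) x
  have key : ∀ a : (cokernel (Subobject.ofLE P R (hPQ.trans hQR))).presheaf.stalk x, a = 0 := by
    intro a
    obtain ⟨r, rfl⟩ := s3 a
    obtain ⟨q, rfl⟩ := (e2 r).1 (@Subsingleton.elim _ h2 _ _)
    obtain ⟨p, rfl⟩ := (e1 q).1 (@Subsingleton.elim _ h1 _ _)
    refine (e3 _).2 ⟨p, ?_⟩
    have h : Subobject.ofLE P R (hPQ.trans hQR) = Subobject.ofLE P Q hPQ ≫ Subobject.ofLE Q R hQR :=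
      (Subobject.ofLE_comp_ofLE P Q R hPQ hQR).symm
    have h' := LinearMap.congr_fun (stalkLin_comp (Subobject.ofLE P Q hPQ) (Subobject.ofLE Q R hQR) x) p
    rw [LinearMap.comp_apply] at h'
    change stalkLin (Subobject.ofLE P R (hPQ.trans hQR)) x p = _
    rw [h]
    exact h'
  exact ⟨fun a b => by rw [key a, key b]⟩

/-- Saturation: a coherent submodule `P` of a pure coherent module `E` of dimension `d` is contained in a coherent
submodule `Q` with `dim Supp (Q/P) < d` and `E/Q` pure of dimension `d`. -/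
theorem exists_saturation [IsNoetherian X] {E : X.Modules} (hE : Coh.IsCoh E) {d : ℕ}
    (hpure : ShStab.IsPure X E d) (P : Subobject E) (hP : Coh.IsCoh (P : X.Modules)) :
    ∃ (Q : Subobject E) (h : P ≤ Q), Coh.IsCoh (Q : X.Modules) ∧
      topologicalKrullDim (CohB1.support (cokernel (Subobject.ofLE P Q h))) < (d : WithBot ℕ∞) ∧
      ShStab.IsPure X (cokernel Q.arrow) d := by
  have hwf := K846.Acc.wellFoundedGT E hE
  let s : Set {F : Subobject E // Coh.IsCoh (F : X.Modules)} :=
    {Q | ∃ h : P ≤ Q.1, topologicalKrullDim (CohB1.support (cokernel (Subobject.ofLE P Q.1 h))) < (d : WithBot ℕ∞)}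
  have hs : s.Nonempty := by
    refine ⟨⟨P, hP⟩, le_rfl, dim_support_of_isZero ?_ d⟩
    have : IsIso (Subobject.ofLE P P le_rfl) := by
      rw [Subobject.ofLE_refl]; infer_instance
    exact isZero_cokernel_of_epi _
  obtain ⟨⟨Q, hQ⟩, ⟨hPQ, hdim⟩, hmax⟩ := (wellFounded_gt (α := {F : Subobject E // Coh.IsCoh (F : X.Modules)})).has_min s hs
  refine ⟨Q, hPQ, hQ, hdim, ?_⟩
  intro F ι hι hF hF0
  have hEQ : Coh.IsCoh (cokernel Q.arrow) := isCoh_cokernel_sub hE Q hQ
  have hle : topologicalKrullDim (CohB1.support F) ≤ (d : WithBot ℕ∞) :=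
    (dim_mono ((support_subset_of_mono ι).trans (support_subset_of_epi (cokernel.π Q.arrow)))).trans
      (dim_support_le_of_isPure hE hpure)
  by_contra hne
  have hlt := lt_of_le_of_ne hle hne
  -- the preimage of `F` in `E`
  let M : Subobject (cokernel Q.arrow) := Subobject.mk ι
  have hM : Coh.IsCoh (M : X.Modules) := Sga67.CohBasic.isCoh_of_iso (Subobject.underlyingIso ι).symm hF
  let R : Subobject E := (Subobject.pullback (cokernel.π Q.arrow)).obj M
  have hR : Coh.IsCoh (R : X.Modules) := isCoh_pull _ hE hEQ M hM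
  have sq := Subobject.isPullback (cokernel.π Q.arrow) M
  have hepi : Epi (Subobject.pullbackπ (cokernel.π Q.arrow) M) := Abelian.epi_fst_of_isLimit _ _ sq.isLimit
  have hQR : Q ≤ R := by
    refine Subobject.le_of_comm (sq.lift 0 Q.arrow (by rw [zero_comp, cokernel.condition])) ?_
    exact sq.lift_snd _ _ _
  have hsupp : CohB1.support (cokernel (Subobject.ofLE Q R hQR)) ⊆ CohB1.support F := by
    intro x hx hx'
    refine hx ?_
    have hM0 : Subsingleton ((M : X.Modules).presheaf.stalk x) := by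
      rw [← not_mem_support_iff, support_congr (Subobject.underlyingIso ι), not_mem_support_iff]
      exact hx'
    have e1 := stalkLin_exact _ (shortExact_sub Q).exact x
    have e2 := stalkLin_exact _ (shortExact_ofLE hQR).exact x
    have s2 := stalkLin_surjective (cokernel.π (Subobject.ofLE Q R hQR)) x
    have hinj := stalkLin_injective R.arrow x
    have key : ∀ a : (cokernel (Subobject.ofLE Q R hQR)).presheaf.stalk x, a = 0 := by
      intro a
      obtain ⟨r, rfl⟩ := s2 a
      have h1 : stalkLin (cokernel.π Q.arrow) x (stalkLin R.arrow x r) = 0 := by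
        have h2 := LinearMap.congr_fun (stalkLin_comp R.arrow (cokernel.π Q.arrow) x) r
        have h3 := LinearMap.congr_fun
          (stalkLin_comp (Subobject.pullbackπ (cokernel.π Q.arrow) M) M.arrow x) r
        rw [LinearMap.comp_apply] at h2 h3
        have h4 : R.arrow ≫ cokernel.π Q.arrow = Subobject.pullbackπ (cokernel.π Q.arrow) M ≫ M.arrow := sq.w.symm
        rw [← h2, h4, h3, @Subsingleton.elim _ hM0 (stalkLin (Subobject.pullbackπ (cokernel.π Q.arrow) M) x r) 0,
          map_zero]
      obtain ⟨q, hq⟩ := (e1 _).1 h1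
      refine (e2 _).2 ⟨q, hinj ?_⟩
      have h5 := LinearMap.congr_fun (stalkLin_comp (Subobject.ofLE Q R hQR) R.arrow x) q
      rw [LinearMap.comp_apply, Subobject.ofLE_arrow] at h5
      rw [← hq]
      exact h5.symm
    exact ⟨fun a b => by rw [key a, key b]⟩
  have hdimR : topologicalKrullDim (CohB1.support (cokernel (Subobject.ofLE P R (hPQ.trans hQR)))) <
      (d : WithBot ℕ∞) := by
    refine lt_of_le_of_lt (dim_mono (support_trans hPQ hQR)) (dim_union_lt ?_ ?_ d hdim
      (lt_of_le_of_lt (dim_mono hsupp) hlt))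
    · exact isClosed_support (isCoh_ofLE_cokernel hPQ hP hQ)
    · exact isClosed_support (isCoh_ofLE_cokernel hQR hQ hR)
  have hQReq : Q = R := by
    by_contra hneq
    exact hmax ⟨R, hR⟩ ⟨hPQ.trans hQR, hdimR⟩ (lt_of_le_of_ne hQR hneq : Q < R)
  refine hF0 ?_
  have h1 : R.arrow ≫ cokernel.π Q.arrow = 0 := by
    have h2 : Subobject.ofLE R Q hQReq.ge ≫ Q.arrow = R.arrow := Subobject.ofLE_arrow _
    rw [← h2, Category.assoc, cokernel.condition, comp_zero]
  have h3 : Subobject.pullbackπ (cokernel.π Q.arrow) M ≫ M.arrow = 0 := by rw [sq.w]; exact h1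
  have h4 : M.arrow = 0 := by
    rw [← cancel_epi (Subobject.pullbackπ (cokernel.π Q.arrow) M), h3, comp_zero]
  have h5 : ι = 0 := by
    rw [← Subobject.underlyingIso_arrow ι]
    change _ ≫ M.arrow = 0
    rw [h4, comp_zero]
  exact IsZero.of_mono_eq_zero ι h5

end K958.Satur
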