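import Groth.Agent.ParSh.K958.StrCoh
import Groth.Agent.ParSh.K958.HilbPos
import Groth.Agent.ParSh.K958.Satur
import Groth.Agent.ParSh.K958.RealPoly

/-!
# Hilbert polynomials of the pieces of a filtration along a divisor
-/

set_option autoImplicit false
universe u
open CategoryTheory CategoryTheory.Limits AlgebraicGeometry Polynomial

namespace K958.Ctx

open Groth.Agent Groth.Agent.CohqB.DevSupport K958.Abel K958.StrX K958.StrCoh W4swparbununimod

section Dim

variable {X : Scheme.{u}} {I : X.IdealSheafData} {E : X.Modules} {d : ℕ}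

theorem dim_piece {𝓔 : ParSh.Str E} (h𝓔 : 𝓔.Along I)
    (hsupp : topologicalKrullDim ↥(CohB1.support E ∩ (I.support : Set X)) < (d : WithBot ℕ∞))
    (j : Fin (𝓔.l + 2)) :
    topologicalKrullDim (CohB1.support (cokernel (𝓔.pieceX j).arrow)) < (d : WithBot ℕ∞) := by
  have h : ParSh.twistSub I E ≤ 𝓔.pieceX j := by
    rw [← h𝓔]; exact 𝓔.bot_le_pieceX j
  exact lt_of_le_of_lt (Satur.dim_mono (TwistSupp.support_cokernel_subset I E _ h)) hsupp

/-- For any `W → E` the quotient of `W` by the pulled back piece embeds into `E/E_j`. -/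
theorem dim_induced {𝓔 : ParSh.Str E} (h𝓔 : 𝓔.Along I)
    (hsupp : topologicalKrullDim ↥(CohB1.support E ∩ (I.support : Set X)) < (d : WithBot ℕ∞))
    {W : X.Modules} (ι : W ⟶ E) (j : Fin (𝓔.l + 2)) :
    topologicalKrullDim (CohB1.support (cokernel ((𝓔.induced ι).pieceX j).arrow)) < (d : WithBot ℕ∞) := by
  rw [induced_pieceX]
  exact lt_of_le_of_lt (Satur.dim_mono (support_subset_of_mono (quotMap ι (𝓔.pieceX j)))) (dim_piece h𝓔 hsupp j)

theorem isCoh_induced [IsLocallyNoetherian X] {𝓔 : ParSh.Str E} (hE : Coh.IsCoh E)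
    (hcoh : ∀ j, Coh.IsCoh ((𝓔.pieceX j : Subobject E) : X.Modules))
    {W : X.Modules} (ι : W ⟶ E) (hW : Coh.IsCoh W) (j : Fin (𝓔.l + 2)) :
    Coh.IsCoh (((𝓔.induced ι).pieceX j : Subobject W) : X.Modules) := by
  rw [induced_pieceX]
  exact StrCoh.isCoh_pull ι hW hE _ (hcoh j)

end Dim

variable {k : Type u} [Field k] {X : Scheme.{u}} [X.Over (Spec (CommRingCat.of k))]
  [IsProper (X ↘ Spec (CommRingCat.of k))] {L : X.Modules}

/-- The coefficients in degrees at least `d` of the parabolic polynomial. -/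
theorem parPoly_coeff_top (hL : PicF.IsInvertible L) {E : X.Modules} (hE : Coh.IsCoh E) (𝓔 : ParSh.Str E)
    (hcoh : ∀ j, Coh.IsCoh ((𝓔.pieceX j : Subobject E) : X.Modules)) {d : ℕ}
    (hdim : ∀ j, topologicalKrullDim (CohB1.support (cokernel (𝓔.pieceX j).arrow)) < (d : WithBot ℕ∞))
    {P : ℚ[X]} (hP : ShStab.IsHilbPoly k X L E P) {PX : Fin (𝓔.l + 2) → ℚ[X]}
    (hPX : ∀ j, ShStab.IsHilbPoly k X L ((𝓔.pieceX j : Subobject E) : X.Modules) (PX j))
    {n : ℕ} (hn : d ≤ n) :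
    (parPoly 𝓔 PX).coeff n = (P.coeff n : ℝ) := by
  have h : ∀ j, (PX j).coeff n = P.coeff n := fun j =>
    coeff_piece hL hE hP _ (hcoh j) (hPX j) (hdim j) hn
  rw [parPoly_coeff]
  simp only [h]
  rw [← Finset.sum_mul, ← add_mul, sum_dw', one_mul]

/-- Each `P_j` is `P` minus the Hilbert polynomial of `E/E_j`; form of the parabolic polynomial. -/
theorem parPoly_eval_le {E : X.Modules} {𝓔 : ParSh.Str E} {PX QX : Fin (𝓔.l + 2) → ℚ[X]} {m : ℕ}
    (h : ∀ j, (PX j).eval (m : ℚ) ≤ (QX j).eval (m : ℚ)) :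
    (parPoly 𝓔 PX).eval (m : ℝ) ≤ (parPoly 𝓔 QX).eval (m : ℝ) := by
  rw [parPoly_eval, parPoly_eval]
  have h' : ∀ j, (((PX j).eval (m : ℚ) : ℚ) : ℝ) ≤ (((QX j).eval (m : ℚ) : ℚ) : ℝ) := fun j => by
    exact_mod_cast h j
  exact add_le_add (mul_le_mul_of_nonneg_left (h' _) (wt_nonneg 𝓔 0))
    (Finset.sum_le_sum fun j _ => mul_le_mul_of_nonneg_left (h' _) (dw_pos 𝓔 j).le)

end K958.Ctx
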