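import Groth.Agent.ParSh.K958.Ctx

/-!
# The parabolic polynomial of an induced filtration in terms of the quotients
-/

set_option autoImplicit false
universe u
open CategoryTheory CategoryTheory.Limits AlgebraicGeometry Polynomial

namespace K958.Ctx2

open Groth.Agent K958.Abel K958.StrX K958.StrCoh W4swparbununimod

variable {k : Type u} [Field k] {X : Scheme.{u}} [X.Over (Spec (CommRingCat.of k))]
  [IsProper (X ↘ Spec (CommRingCat.of k))] {L : X.Modules}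

/-- `χ(E_j) = χ(E) - χ(E/E_j)` for polynomials. -/
theorem piece_eq_sub (hL : PicF.IsInvertible L) {E : X.Modules} (hE : Coh.IsCoh E) {P : ℚ[X]}
    (hP : ShStab.IsHilbPoly k X L E P) (S : Subobject E) (hS : Coh.IsCoh (S : X.Modules)) {Q K : ℚ[X]}
    (hQ : ShStab.IsHilbPoly k X L (S : X.Modules) Q) (hK : ShStab.IsHilbPoly k X L (cokernel S.arrow) K) :
    Q = P - K := by
  have h := HilbX.unique hK (hilb_cokernel hL hE hP S hS hQ)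
  rw [h]; ring

theorem parPoly_quot_coeff (hL : PicF.IsInvertible L) {E : X.Modules} (hE : Coh.IsCoh E) (𝓔 : ParSh.Str E)
    (hcoh : ∀ j, Coh.IsCoh ((𝓔.pieceX j : Subobject E) : X.Modules)) {P : ℚ[X]}
    (hP : ShStab.IsHilbPoly k X L E P) {PX K : Fin (𝓔.l + 2) → ℚ[X]}
    (hPX : ∀ j, ShStab.IsHilbPoly k X L ((𝓔.pieceX j : Subobject E) : X.Modules) (PX j))
    (hK : ∀ j, ShStab.IsHilbPoly k X L (cokernel (𝓔.pieceX j).arrow) (K j)) (n : ℕ) :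
    (parPoly 𝓔 PX).coeff n = (P.coeff n : ℝ) - ∑ j : Fin (𝓔.l + 1), dw 𝓔 j * ((K j.succ).coeff n : ℝ) := by
  have h : ∀ j, PX j = P - K j := fun j => piece_eq_sub hL hE hP _ (hcoh j) (hPX j) (hK j)
  have h0 : PX 0 = P := hilb_top hL hE hP (pieceX_zero_eq_top 𝓔) (hPX 0)
  rw [parPoly_coeff, h0]
  have h1 : ∑ j : Fin (𝓔.l + 1), dw 𝓔 j * ((PX j.succ).coeff n : ℝ) =
      (∑ j : Fin (𝓔.l + 1), dw 𝓔 j) * (P.coeff n : ℝ) -
        ∑ j : Fin (𝓔.l + 1), dw 𝓔 j * ((K j.succ).coeff n : ℝ) := by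
    rw [Finset.sum_mul, ← Finset.sum_sub_distrib]
    refine Finset.sum_congr rfl fun j _ => ?_
    rw [h j.succ, Polynomial.coeff_sub]
    push_cast
    ring
  rw [h1, sum_dw]
  ring

theorem parPoly_quot_eval (hL : PicF.IsInvertible L) {E : X.Modules} (hE : Coh.IsCoh E) (𝓔 : ParSh.Str E)
    (hcoh : ∀ j, Coh.IsCoh ((𝓔.pieceX j : Subobject E) : X.Modules)) {P : ℚ[X]}
    (hP : ShStab.IsHilbPoly k X L E P) {PX K : Fin (𝓔.l + 2) → ℚ[X]}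
    (hPX : ∀ j, ShStab.IsHilbPoly k X L ((𝓔.pieceX j : Subobject E) : X.Modules) (PX j))
    (hK : ∀ j, ShStab.IsHilbPoly k X L (cokernel (𝓔.pieceX j).arrow) (K j)) (m : ℕ) :
    (parPoly 𝓔 PX).eval (m : ℝ) = ((P.eval (m : ℚ) : ℚ) : ℝ) -
      ∑ j : Fin (𝓔.l + 1), dw 𝓔 j * (((K j.succ).eval (m : ℚ) : ℚ) : ℝ) := by
  have h : ∀ j, PX j = P - K j := fun j => piece_eq_sub hL hE hP _ (hcoh j) (hPX j) (hK j)
  have h0 : PX 0 = P := hilb_top hL hE hP (pieceX_zero_eq_top 𝓔) (hPX 0)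
  rw [parPoly_eval, h0]
  have h1 : ∑ j : Fin (𝓔.l + 1), dw 𝓔 j * (((PX j.succ).eval (m : ℚ) : ℚ) : ℝ) =
      (∑ j : Fin (𝓔.l + 1), dw 𝓔 j) * ((P.eval (m : ℚ) : ℚ) : ℝ) -
        ∑ j : Fin (𝓔.l + 1), dw 𝓔 j * (((K j.succ).eval (m : ℚ) : ℚ) : ℝ) := by
    rw [Finset.sum_mul, ← Finset.sum_sub_distrib]
    refine Finset.sum_congr rfl fun j _ => ?_
    rw [h j.succ, Polynomial.eval_sub]
    push_cast
    ring
  rw [h1, sum_dw]
  ring

theorem parPolyOne_coeff {E : X.Modules} (𝓔 : ParSh.Str E) (d : ℕ) (Q : ℚ[X]) (QH H : Fin (𝓔.l + 2) → ℚ[X]) (n : ℕ) :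
    (parPolyOne 𝓔 d Q QH H).coeff n = (Q.coeff n : ℝ) - ∑ j : Fin (𝓔.l + 1), dw 𝓔 j *
      ((((StabCat.alpha (d - 1) (QH j.succ) / StabCat.alpha (d - 1) (H j.succ) : ℚ)) : ℝ) * ((H j.succ).coeff n : ℝ)) := by
  unfold parPolyOne
  rw [Polynomial.coeff_sub, Polynomial.finsetSum_coeff]
  simp only [Polynomial.coeff_C_mul, Polynomial.coeff_map, eq_ratCast, mul_assoc]
  rfl

theorem parPolyOne_eval {E : X.Modules} (𝓔 : ParSh.Str E) (d : ℕ) (Q : ℚ[X]) (QH H : Fin (𝓔.l + 2) → ℚ[X]) (m : ℕ) :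
    (parPolyOne 𝓔 d Q QH H).eval (m : ℝ) = ((Q.eval (m : ℚ) : ℚ) : ℝ) - ∑ j : Fin (𝓔.l + 1), dw 𝓔 j *
      ((((StabCat.alpha (d - 1) (QH j.succ) / StabCat.alpha (d - 1) (H j.succ) : ℚ)) : ℝ) *
        (((H j.succ).eval (m : ℚ) : ℚ) : ℝ)) := by
  unfold parPolyOne
  rw [Polynomial.eval_sub, Polynomial.eval_finsetSum]
  simp only [Polynomial.eval_mul, Polynomial.eval_C, rpoly_eval, mul_assoc]
  rfl

end K958.Ctx2
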