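import Groth.Agent.S1524
import Groth.Agent.S1528
import Groth.Agent.S0051
import Groth.Agent.Fga.IntNum0
import Groth.Agent.ShStab.K847.PolyOrd
import Groth.Prelude.Def_ShStab
import Mathlib.Algebra.Polynomial.AlgebraMap
import Mathlib.Algebra.MvPolynomial.Eval
import Mathlib.Algebra.MvPolynomial.Polynomial
import Mathlib.Tactic

/-!
# Hilbert polynomials of coherent modules: existence, uniqueness, additivity, degree, sign
-/

set_option autoImplicit false
universe u
open CategoryTheory CategoryTheory.Limits AlgebraicGeometry Polynomial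

namespace K958.HilbX

open Groth.Agent Groth.Agent.Fga.ChiBasic Groth.Agent.Fga.PicMon Groth.Agent.CohqB.DevSupport

section General

variable {X : Scheme.{u}}

theorem twist_iso_swap (L F : X.Modules) (m : ℕ) :
    Nonempty (ShStab.twist X L F m ≅ CohB1.tensorMod (CohB1.tensorPow L m) F) :=
  ⟨Groth.Agent.Ega2.Tens.swap _ _⟩

theorem isCoh_twist {L F : X.Modules} (hL : PicF.IsInvertible L) (hF : Coh.IsCoh F) (m : ℕ) :
    Coh.IsCoh (ShStab.twist X L F m) :=
  Groth.Agent.Fga.TwistCoh.isCoh_tensor hF (Groth.Agent.Fdesc.LocGen.isInvertible_tensorPow hL m)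

end General

variable (k : Type u) [Field k] {X : Scheme.{u}} [X.Over (Spec (CommRingCat.of k))]
  [IsProper (X ↘ Spec (CommRingCat.of k))]

theorem isNoetherian (k : Type u) [Field k] (X : Scheme.{u}) [X.Over (Spec (CommRingCat.of k))]
    [IsProper (X ↘ Spec (CommRingCat.of k))] : IsNoetherian X :=
  Groth.Agent.Fga.SnapperTwist.isNoetherian_of_proper k X

theorem isAdd_euler : IsAdd (Curv2.euler k X) := fun S hS h1 h2 h3 => S1524.result k X S hS h1 h2 h3

theorem isAdd_twist {L : X.Modules} (hL : PicF.IsInvertible L) (m : ℕ) :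
    IsAdd (fun F => Curv2.euler k X (ShStab.twist X L F m)) := by
  intro S hS h1 h2 h3
  have hLm := Groth.Agent.Fdesc.LocGen.isInvertible_tensorPow hL m
  have h := Groth.Agent.Fga.SnapperTwist.isAdd_twist (isAdd_euler k) hLm S hS h1 h2 h3
  have key : ∀ F : X.Modules, Coh.IsCoh F → Curv2.euler k X (ShStab.twist X L F m) =
      Curv2.euler k X (CohB1.tensorMod (CohB1.tensorPow L m) F) := fun F hF =>
    chi_iso (isAdd_euler k) (twist_iso_swap L F m).some (isCoh_twist hL hF m)
  simp only at h ⊢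
  rw [key _ h1, key _ h2, key _ h3]
  exact h

theorem euler_twist_iso {L F G : X.Modules} (hL : PicF.IsInvertible L) (e : F ≅ G) (hF : Coh.IsCoh F)
    (m : ℕ) : Curv2.euler k X (ShStab.twist X L F m) = Curv2.euler k X (ShStab.twist X L G m) :=
  chi_iso (isAdd_twist k hL m) e hF

variable {k}

omit [IsProper (X ↘ Spec (CommRingCat.of k))] in
theorem unique {L F : X.Modules} {P Q : ℚ[X]} (hP : ShStab.IsHilbPoly k X L F P)
    (hQ : ShStab.IsHilbPoly k X L F Q) : P = Q :=
  K847.PolyOrd.eq_of_eval_nat fun m => by rw [← hP m, ← hQ m]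

theorem of_iso {L F G : X.Modules} (hL : PicF.IsInvertible L) (e : F ≅ G) (hF : Coh.IsCoh F)
    {P : ℚ[X]} (hP : ShStab.IsHilbPoly k X L F P) : ShStab.IsHilbPoly k X L G P := fun m => by
  rw [← hP m, euler_twist_iso k hL e hF m]

theorem of_isZero {L F : X.Modules} (hL : PicF.IsInvertible L) (hF : IsZero F) :
    ShStab.IsHilbPoly k X L F 0 := fun m => by
  have h : Curv2.euler k X (ShStab.twist X L F m) = 0 := chi_isZero (isAdd_twist k hL m) hF
  rw [h]
  simp

theorem add_eq {L : X.Modules} (hL : PicF.IsInvertible L) (S : ShortComplex X.Modules) (hS : S.ShortExact)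
    (h1 : Coh.IsCoh S.X₁) (h2 : Coh.IsCoh S.X₂) (h3 : Coh.IsCoh S.X₃) {P₁ P₂ P₃ : ℚ[X]}
    (hP₁ : ShStab.IsHilbPoly k X L S.X₁ P₁) (hP₂ : ShStab.IsHilbPoly k X L S.X₂ P₂)
    (hP₃ : ShStab.IsHilbPoly k X L S.X₃ P₃) : P₂ = P₁ + P₃ := by
  refine K847.PolyOrd.eq_of_eval_nat fun m => ?_
  have h := isAdd_twist k hL m S hS h1 h2 h3
  simp only at h
  rw [← hP₂ m, h, Polynomial.eval_add, ← hP₁ m, ← hP₃ m]
  push_cast
  rfl

/-- In a short exact sequence the difference of the Hilbert polynomials is the one of the quotient. -/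
theorem sub_isHilb {L : X.Modules} (hL : PicF.IsInvertible L) (S : ShortComplex X.Modules) (hS : S.ShortExact)
    (h1 : Coh.IsCoh S.X₁) (h2 : Coh.IsCoh S.X₂) (h3 : Coh.IsCoh S.X₃) {P₁ P₂ : ℚ[X]}
    (hP₁ : ShStab.IsHilbPoly k X L S.X₁ P₁) (hP₂ : ShStab.IsHilbPoly k X L S.X₂ P₂) :
    ShStab.IsHilbPoly k X L S.X₃ (P₂ - P₁) := fun m => by
  have h := isAdd_twist k hL m S hS h1 h2 h3
  simp only at h
  rw [Polynomial.eval_sub, ← hP₁ m, ← hP₂ m, h]
  push_cast
  ring

theorem sub_isHilb' {L : X.Modules} (hL : PicF.IsInvertible L) (S : ShortComplex X.Modules) (hS : S.ShortExact)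
    (h1 : Coh.IsCoh S.X₁) (h2 : Coh.IsCoh S.X₂) (h3 : Coh.IsCoh S.X₃) {P₂ P₃ : ℚ[X]}
    (hP₂ : ShStab.IsHilbPoly k X L S.X₂ P₂) (hP₃ : ShStab.IsHilbPoly k X L S.X₃ P₃) :
    ShStab.IsHilbPoly k X L S.X₁ (P₂ - P₃) := fun m => by
  have h := isAdd_twist k hL m S hS h1 h2 h3
  simp only at h
  rw [Polynomial.eval_sub, ← hP₃ m, ← hP₂ m, h]
  push_cast
  ring

/-- Existence with the degree bound. -/
theorem exists_hilb {L : X.Modules} (hL : PicF.IsInvertible L) {F : X.Modules} (hF : Coh.IsCoh F) {d : ℕ}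
    (hd : topologicalKrullDim (CohB1.support F) ≤ d) :
    ∃ P : ℚ[X], ShStab.IsHilbPoly k X L F P ∧ P.natDegree ≤ d := by
  obtain ⟨P, hdeg, hP⟩ := S1528.result k X F hF d hd 1 (fun _ => L) (fun _ => hL)
  refine ⟨MvPolynomial.aeval (fun _ => Polynomial.X) P, fun m => ?_, ?_⟩
  · have h1 := hP fun _ => m
    have h2 : Polynomial.eval (m : ℚ) (MvPolynomial.aeval (fun _ : Fin 1 => Polynomial.X) P) =
        MvPolynomial.eval (fun _ : Fin 1 => (m : ℚ)) P := by
      have h3 := MvPolynomial.comp_aeval_apply (fun _ : Fin 1 => (Polynomial.X : Polynomial ℚ))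
        (Polynomial.aeval (R := ℚ) (m : ℚ)) P
      simp only [Polynomial.aeval_X, Polynomial.coe_aeval_eq_eval] at h3
      exact h3
    rw [h2, ← h1]
    rfl
  · have h := MvPolynomial.aeval_natDegree_le P hdeg (fun _ : Fin 1 => (Polynomial.X : Polynomial ℚ))
      (n := 1) (fun _ => Polynomial.natDegree_X_le)
    simpa using h

/-- Degree bound. -/
theorem natDegree_le {L : X.Modules} (hL : PicF.IsInvertible L) {F : X.Modules} (hF : Coh.IsCoh F) {d : ℕ}
    (hd : topologicalKrullDim (CohB1.support F) ≤ d) {P : ℚ[X]} (hP : ShStab.IsHilbPoly k X L F P) :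
    P.natDegree ≤ d := by
  obtain ⟨Q, hQ, hQd⟩ := exists_hilb (k := k) hL hF hd
  rwa [unique hP hQ]

theorem isZero_of_dim_lt_zero {X : Scheme.{u}} {F : X.Modules}
    (hd : topologicalKrullDim (CohB1.support F) < ((0 : ℕ) : WithBot ℕ∞)) : IsZero F := by
  refine isZero_of_support_eq_empty ?_
  have h : IsEmpty (CohB1.support F) :=
    Groth.Agent.Fga.IntNum0.isEmpty_of_topologicalKrullDim_neg (by exact_mod_cast hd)
  exact Set.isEmpty_coe_sort.1 h

/-- Coefficients in degrees above the dimension of the support vanish (strict form). -/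
theorem coeff_eq_zero {L : X.Modules} (hL : PicF.IsInvertible L) {F : X.Modules} (hF : Coh.IsCoh F) {d : ℕ}
    (hd : topologicalKrullDim (CohB1.support F) < (d : WithBot ℕ∞)) {P : ℚ[X]}
    (hP : ShStab.IsHilbPoly k X L F P) {n : ℕ} (hn : d ≤ n) : P.coeff n = 0 := by
  rcases d with _ | e
  · have hz := isZero_of_dim_lt_zero hd
    rw [unique hP (of_isZero hL hz)]
    simp
  · have h1 : topologicalKrullDim (CohB1.support F) ≤ e := Groth.Agent.Fga.IntNum0.withBot_le_of_lt_succ hd
    have h3 := natDegree_le (k := k) hL hF h1 hP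
    exact Polynomial.coeff_eq_zero_of_natDegree_lt (by omega)

end K958.HilbX
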