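import Groth.Agent.ParSh.K958.StrX
import Groth.Agent.ParSh.K958.TwistSupp
import Groth.Agent.ParSh.K958.HilbX

/-!
# Coherence and Hilbert polynomials of the pieces of induced and coinduced filtrations
-/

set_option autoImplicit false
universe u
open CategoryTheory CategoryTheory.Limits AlgebraicGeometry Polynomial

namespace K958.StrCoh

open Groth.Agent Groth.Agent.CohqB.DevSupport K958.Abel K958.StrX

section Coh

variable {X : Scheme.{u}}

theorem isCoh_cokernel_sub {E : X.Modules} (hE : Coh.IsCoh E) (P : Subobject E)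
    (hP : Coh.IsCoh (P : X.Modules)) : Coh.IsCoh (cokernel P.arrow) :=
  Sga67.CohBasic.isCoh_cokernel _ hP.1 hE

theorem isCoh_pull [IsLocallyNoetherian X] {W E : X.Modules} (ι : W ⟶ E) (hW : Coh.IsCoh W)
    (hE : Coh.IsCoh E) (P : Subobject E) (hP : Coh.IsCoh (P : X.Modules)) :
    Coh.IsCoh (((Subobject.pullback ι).obj P : Subobject W) : X.Modules) := by
  have h1 : Coh.IsCoh (kernel (ι ≫ cokernel.π P.arrow)) :=
    Sga67.CohBasic.isCoh_kernel _ hW (isCoh_cokernel_sub hE P hP).1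
  exact Sga67.CohBasic.isCoh_of_iso
    (IsLimit.conePointUniqueUpToIso (kernelIsKernel _) (pullIsKernel ι P)) h1

theorem isCoh_imageSub {A B : X.Modules} (f : A ⟶ B) (hA : Coh.IsCoh A) (hB : Coh.IsCoh B) :
    Coh.IsCoh ((imageSubobject f : Subobject B) : X.Modules) :=
  Sga67.CohBasic.isCoh_of_iso ((Abelian.imageIsoImage f) ≪≫ (imageSubobjectIso f).symm)
    (Sga67.CohBasic.isCoh_image f hA hB.1)

theorem isCoh_ofLE_cokernel {E : X.Modules} {P Q : Subobject E} (h : P ≤ Q)
    (hP : Coh.IsCoh (P : X.Modules)) (hQ : Coh.IsCoh (Q : X.Modules)) :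
    Coh.IsCoh (cokernel (Subobject.ofLE P Q h)) :=
  Sga67.CohBasic.isCoh_cokernel _ hP.1 hQ

/-- `Q/P` embeds into `E/P`. -/
theorem support_ofLE {E : X.Modules} {P Q : Subobject E} (h : P ≤ Q) :
    CohB1.support (cokernel (Subobject.ofLE P Q h)) ⊆ CohB1.support (cokernel P.arrow) := by
  intro x hx hx'
  -- stalkwise: if `E/P` vanishes at `x` then `P_x → E_x` is surjective, hence `P_x → Q_x` is
  refine hx ?_
  have e1 := CycB.StalkExact.stalkLin_exact _ (shortExact_sub P).exact x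
  have hPs : Function.Surjective (CycB.StalkExact.stalkLin P.arrow x) := fun y =>
    (e1 y).1 (@Subsingleton.elim _ hx' _ _)
  have hcomp : (CycB.StalkExact.stalkLin Q.arrow x).comp (CycB.StalkExact.stalkLin (Subobject.ofLE P Q h) x) =
      CycB.StalkExact.stalkLin P.arrow x := by
    rw [← CycB.StalkExact.stalkLin_comp, Subobject.ofLE_arrow]
  have hinj := CycB.StalkExact.stalkLin_injective Q.arrow x
  have hs : Function.Surjective (CycB.StalkExact.stalkLin (Subobject.ofLE P Q h) x) := by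
    intro y
    obtain ⟨z, hz⟩ := hPs (CycB.StalkExact.stalkLin Q.arrow x y)
    refine ⟨z, hinj ?_⟩
    rw [← hz, ← hcomp]
    rfl
  have e2 := CycB.StalkExact.stalkLin_exact _ (shortExact_ofLE h).exact x
  have hπ := CycB.StalkExact.stalkLin_surjective (cokernel.π (Subobject.ofLE P Q h)) x
  have key : ∀ a : (cokernel (Subobject.ofLE P Q h)).presheaf.stalk x, a = 0 := by
    intro a
    obtain ⟨b, rfl⟩ := hπ a
    obtain ⟨c, rfl⟩ := hs b
    exact (e2 _).2 ⟨c, rfl⟩
  exact ⟨fun a b => by rw [key a, key b]⟩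

end Coh

variable {k : Type u} [Field k] {X : Scheme.{u}} [X.Over (Spec (CommRingCat.of k))]
  [IsProper (X ↘ Spec (CommRingCat.of k))]

section Hilb

variable {L : X.Modules} (hL : PicF.IsInvertible L)

include hL

/-- The Hilbert polynomial of the top subobject. -/
theorem hilb_top {E : X.Modules} (hE : Coh.IsCoh E) {P Q : ℚ[X]} (hP : ShStab.IsHilbPoly k X L E P)
    {T : Subobject E} (hT : T = ⊤) (hQ : ShStab.IsHilbPoly k X L (T : X.Modules) Q) : Q = P := by
  subst hT
  have hiso : IsIso (⊤ : Subobject E).arrow := inferInstance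
  have e : E ≅ ((⊤ : Subobject E) : X.Modules) := (asIso (⊤ : Subobject E).arrow).symm
  exact HilbX.unique hQ (HilbX.of_iso hL e hE hP)

theorem hilb_cokernel {E : X.Modules} (hE : Coh.IsCoh E) {P : ℚ[X]} (hP : ShStab.IsHilbPoly k X L E P)
    (S : Subobject E) (hS : Coh.IsCoh (S : X.Modules)) {Q : ℚ[X]} (hQ : ShStab.IsHilbPoly k X L (S : X.Modules) Q) :
    ShStab.IsHilbPoly k X L (cokernel S.arrow) (P - Q) :=
  HilbX.sub_isHilb hL _ (shortExact_sub S) hS hE (isCoh_cokernel_sub hE S hS) hQ hP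

theorem hilb_ofLE {E : X.Modules} {S T : Subobject E} (h : S ≤ T) (hS : Coh.IsCoh (S : X.Modules))
    (hT : Coh.IsCoh (T : X.Modules)) {P Q : ℚ[X]} (hP : ShStab.IsHilbPoly k X L (S : X.Modules) P)
    (hQ : ShStab.IsHilbPoly k X L (T : X.Modules) Q) :
    ShStab.IsHilbPoly k X L (cokernel (Subobject.ofLE S T h)) (Q - P) :=
  HilbX.sub_isHilb hL _ (shortExact_ofLE h) hS hT (isCoh_ofLE_cokernel h hS hT) hP hQ

/-- `P_j` and `P` have the same coefficients in degrees at least `d`. -/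
theorem coeff_piece {E : X.Modules} (hE : Coh.IsCoh E) {P : ℚ[X]} (hP : ShStab.IsHilbPoly k X L E P)
    (S : Subobject E) (hS : Coh.IsCoh (S : X.Modules)) {Q : ℚ[X]}
    (hQ : ShStab.IsHilbPoly k X L (S : X.Modules) Q) {d : ℕ}
    (hd : topologicalKrullDim (CohB1.support (cokernel S.arrow)) < (d : WithBot ℕ∞)) {n : ℕ} (hn : d ≤ n) :
    Q.coeff n = P.coeff n := by
  have h := HilbX.coeff_eq_zero hL (isCoh_cokernel_sub hE S hS) hd (hilb_cokernel hL hE hP S hS hQ) hn
  rw [Polynomial.coeff_sub, sub_eq_zero] at h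
  exact h.symm

end Hilb

end K958.StrCoh
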