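import Groth.Agent.ParSh.K958.GpBase
import Groth.Agent.ParSh.K958.StrCoh
import Groth.Agent.VarietyA.GlobGen
import Groth.Agent.PerfB.QCohLocal
import Groth.Prelude.Def_RefPow
import Mathlib.CategoryTheory.Abelian.Exact

/-!
# Sub-`O`-modules between `I·E` and `E` on a curve are coherent; `E/I·E = E ⊗ O_D`
-/

set_option autoImplicit false
universe u
open CategoryTheory CategoryTheory.Limits AlgebraicGeometry

namespace K958.CurvA

open Groth.Agent Groth.Agent.CycB.StalkExact Groth.Agent.VarietyA.DegRank K707.Base K707.Deg K707.Slope K707.Semi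
open K958.GpBase

section FinSupp

variable {X : Scheme.{u}}

theorem isQCoh_free (ι : Type u) : Coh.IsQCoh (SheafOfModules.free ι : X.Modules) :=
  PerfB.QCohLocal.isQCoh_of_isColimit (Discrete.functor fun _ : ι => Coh.structureModule X)
    (fun _ => Ega2.QCohLocal.isQCoh_structureModule X) _ (coproductIsCoproduct _)

theorem isCoh_of_factor [IsLocallyNoetherian X] {L M N : X.Modules} (p : L ⟶ M) [Epi p] (f : M ⟶ N) [Mono f]
    (hL : Coh.IsQCoh L) (hN : Coh.IsCoh N) : Coh.IsCoh M := by
  have h1 := Sga67.CohBasic.isQCoh_image (p ≫ f) hL hN.1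
  have e : M ≅ Abelian.image (p ≫ f) := by
    let F : MonoFactorisation (p ≫ f) := { I := M, m := f, e := p, fac := rfl }
    let G : StrongEpiMonoFactorisation (p ≫ f) :=
      { F with e_strong_epi := strongEpi_of_epi p }
    exact (IsImage.isoExt G.toMonoIsImage (Image.isImage (p ≫ f))) ≪≫ (Abelian.imageIsoImage (p ≫ f)).symm
  exact CycB.CohProp.isCoh_of_mono f (Sga67.CohBasic.isQCoh_of_iso e.symm h1) hN

/-- A (not necessarily quasi-coherent) submodule of a coherent module with finite support of closed points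
is coherent. -/
theorem isCoh_of_mono_finite [IsLocallyNoetherian X] {M N : X.Modules} (f : M ⟶ N) [Mono f] (hN : Coh.IsCoh N)
    (hfin : (CohB1.support N).Finite) (hc : ∀ x ∈ CohB1.support N, IsClosed ({x} : Set X)) : Coh.IsCoh M := by
  have hM : ∀ x, x ∉ CohB1.support N → Subsingleton (M.presheaf.stalk x) := fun x hx =>
    subsingleton_of_mono f x (not_not.1 hx)
  obtain ⟨ι, p, hp⟩ := VarietyA.GlobGen.isGloballyGenerated_of_finite M hfin hc hM
  have hp' : Epi (C := X.Modules) p := hp
  exact isCoh_of_factor (L := SheafOfModules.free ι) p f (isQCoh_free ι) hN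

/-- Quotients (by arbitrary submodules) of such modules are coherent. -/
theorem isCoh_of_epi_finite [IsLocallyNoetherian X] {N R : X.Modules} (p : N ⟶ R) [Epi p] (hN : Coh.IsCoh N)
    (hfin : (CohB1.support N).Finite) (hc : ∀ x ∈ CohB1.support N, IsClosed ({x} : Set X)) : Coh.IsCoh R := by
  have hK : Coh.IsCoh (kernel p) := isCoh_of_mono_finite (kernel.ι p) hN hfin hc
  have hS : (ShortComplex.mk (kernel.ι p) p (kernel.condition p)).ShortExact := kernel_shortExact' p
  exact Sga67.CohBasic.isCoh_X₃ hS hK.1 hN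
where
  kernel_shortExact' {X : Scheme.{u}} {E Q : X.Modules} (p : E ⟶ Q) [Epi p] :
    (ShortComplex.mk (kernel.ι p) p (kernel.condition p)).ShortExact :=
  { exact := ShortComplex.exact_kernel p }

end FinSupp

section TwistSub

variable {X : Scheme.{u}} (I : X.IdealSheafData)

theorem exact_congr {A B D : X.Modules} {a a' : A ⟶ B} {b b' : B ⟶ D} (ha : a = a') (hb : b = b') {w : a ≫ b = 0}
    (h : (ShortComplex.mk a b w).Exact) : ∃ w' : a' ≫ b' = 0, (ShortComplex.mk a' b' w').Exact := by
  subst ha hb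
  exact ⟨w, h⟩

theorem exact_tensorMap (V : X.Modules) :
    ∃ w : KoszTw.tensorMap (𝟙 V) (ClSub.idealModι I) ≫ KoszTw.tensorMap (𝟙 V) (ClSub.toSubscheme I) = 0,
      (ShortComplex.mk (KoszTw.tensorMap (𝟙 V) (ClSub.idealModι I))
      (KoszTw.tensorMap (𝟙 V) (ClSub.toSubscheme I)) w).Exact := by
  have h0 : Epi (VarietyB.DegCartier.idealSeq I).g := (VarietyB.DegCartier.idealSeq_shortExact I).epi_g
  obtain ⟨h1, -⟩ := TwistSupp.exact_tensor V _ (VarietyB.DegCartier.idealSeq_shortExact I).exact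
  exact exact_congr (KoszTw.tensorBi_obj_map V (ClSub.idealModι I)) (KoszTw.tensorBi_obj_map V (ClSub.toSubscheme I)) h1

/-- `V ⊗ I → V → V ⊗ O_D → 0` is exact. -/
theorem exact_twistMap (V : X.Modules) :
    ∃ w : ParSh.twistMap I V ≫ toRD I V = 0, (ShortComplex.mk (ParSh.twistMap I V) (toRD I V) w).Exact := by
  obtain ⟨w0, h2⟩ := exact_tensorMap I V
  have w : ParSh.twistMap I V ≫ toRD I V = 0 := by
    unfold ParSh.twistMap toRD toRD'
    rw [Category.assoc, Category.assoc, Iso.hom_inv_id_assoc, ← Category.assoc, w0, zero_comp]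
  refine ⟨w, ShortComplex.exact_of_iso ?_ h2⟩
  refine ShortComplex.isoMk (Iso.refl _) (SecTwist.unitorR V) (rDIso I V).symm ?_ ?_
  · simp [ParSh.twistMap]
  · simp [toRD, toRD']

theorem twistSub_eq (V : X.Modules) : ParSh.twistSub I V = kernelSubobject (toRD I V) := by
  obtain ⟨w, h⟩ := exact_twistMap I V
  exact (ShortComplex.exact_iff_image_eq_kernel _).1 h

theorem unitorR_naturality {V W : X.Modules} (f : V ⟶ W) :
    f ≫ (SecTwist.unitorR W).inv = (SecTwist.unitorR V).inv ≫ KoszTw.tensorMap f (𝟙 _) := by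
  refine Scheme.Modules.hom_ext _ _ fun U => ?_
  ext m
  rw [Scheme.Modules.Hom.comp_app, Scheme.Modules.Hom.comp_app]
  refine (RefPow.unitorR_inv_app W U (f.app U m)).trans ?_
  refine ((congrArg (fun t => (KoszTw.tensorMap f (𝟙 (Coh.structureModule X))).app U t)
    (RefPow.unitorR_inv_app V U m)).trans ?_).symm
  exact KoszTw.tensorMap_tmul f (𝟙 (Coh.structureModule X)) U m _

/-- `toRD` is natural. -/
theorem toRD_naturality {V W : X.Modules} (f : V ⟶ W) : f ≫ toRD I W = toRD I V ≫ (rD I).map f := by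
  have h1 : (rDIso I V).inv ≫ (rD I).map f = KoszTw.tensorMap f (𝟙 (ClSub.quotMod I)) ≫ (rDIso I W).inv :=
    (Category.id_comp _).trans ((rD_map I f).trans (Category.comp_id _).symm)
  have h2 : KoszTw.tensorMap f (𝟙 (Coh.structureModule X)) ≫ KoszTw.tensorMap (𝟙 W) (ClSub.toSubscheme I) =
      KoszTw.tensorMap (𝟙 V) (ClSub.toSubscheme I) ≫ KoszTw.tensorMap f (𝟙 (ClSub.quotMod I)) := by
    rw [← KoszTw.tensorMap_comp, ← KoszTw.tensorMap_comp]
    simp
  unfold toRD toRD'
  rw [← Category.assoc, ← Category.assoc, unitorR_naturality, Category.assoc, Category.assoc, Category.assoc,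
    Category.assoc, reassoc_of% h2, h1]

end TwistSub

end K958.CurvA
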