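import Groth.Agent.ParSh.K958.CurvA

/-!
# Bottoms of induced and coinduced structures; coherence of the pieces
-/

set_option autoImplicit false
universe v u
open CategoryTheory CategoryTheory.Limits AlgebraicGeometry

namespace K958.CurvB

open Groth.Agent Groth.Agent.CycB.StalkExact Groth.Agent.VarietyA.DegRank K707.Base K707.Deg K707.Slope K707.Semi
open K958.GpBase K958.CurvA

section Abstract

variable {C : Type u} [Category.{v} C] [Abelian C]

theorem imageSubobject_epi_comp {A' A B : C} (h : A' ⟶ A) [Epi h] (f : A ⟶ B) :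
    imageSubobject (h ≫ f) = imageSubobject f := by
  refine le_antisymm (imageSubobject_comp_le h f) ?_
  have h1 := imageSubobject_comp_le_epi_of_epi h f
  have h2 : IsIso (Subobject.ofLE _ _ (imageSubobject_comp_le h f)) := isIso_of_mono_of_epi _
  exact Subobject.le_of_comm (inv (Subobject.ofLE _ _ (imageSubobject_comp_le h f))) (by simp)

/-- The image of an image. -/
theorem imageSubobject_comp_arrow {A B D : C} (f : A ⟶ B) (g : B ⟶ D) :
    imageSubobject ((imageSubobject f).arrow ≫ g) = imageSubobject (f ≫ g) := by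
  rw [← imageSubobject_epi_comp (factorThruImageSubobject f), ← Category.assoc, imageSubobject_arrow_comp]

theorem pullback_kernelSubobject {A B D : C} (f : A ⟶ B) (g : B ⟶ D) :
    (Subobject.pullback f).obj (kernelSubobject g) = kernelSubobject (f ≫ g) := by
  have hsq := Subobject.isPullback f (kernelSubobject g)
  apply le_antisymm
  · refine le_kernelSubobject (f ≫ g) ((Subobject.pullback f).obj (kernelSubobject g)) ?_
    rw [← Category.assoc, ← hsq.w, Category.assoc, kernelSubobject_arrow_comp, comp_zero]
  · have h : ((kernelSubobject (f ≫ g)).arrow ≫ f) ≫ g = 0 := by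
      rw [Category.assoc, kernelSubobject_arrow_comp]
    exact Subobject.le_of_comm (hsq.lift (factorThruKernelSubobject g _ h) (kernelSubobject (f ≫ g)).arrow (by simp))
      (hsq.lift_snd _ _ _)

end Abstract

section Bot

variable {X : Scheme.{u}} (I : X.IdealSheafData)

/-- The image of `I·E` in a quotient `V` is `I·V`. -/
theorem image_twistSub {E V : X.Modules} (q : E ⟶ V) [Epi q] :
    imageSubobject ((ParSh.twistSub I E).arrow ≫ q) = ParSh.twistSub I V := by
  have h1 : ParSh.twistMap I E ≫ q = KoszTw.tensorMap q (𝟙 _) ≫ ParSh.twistMap I V := by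
    have h2 : (SecTwist.unitorR E).hom ≫ q = KoszTw.tensorMap q (𝟙 _) ≫ (SecTwist.unitorR V).hom := by
      have h := unitorR_naturality q
      rw [← cancel_mono (SecTwist.unitorR V).inv, Category.assoc, Category.assoc, h, Iso.hom_inv_id_assoc,
        Iso.hom_inv_id, Category.comp_id]
    unfold ParSh.twistMap
    rw [Category.assoc, h2, ← Category.assoc, ← Category.assoc, ← KoszTw.tensorMap_comp, ← KoszTw.tensorMap_comp]
    simp
  have h3 : Epi (KoszTw.tensorMap q (𝟙 (ClSub.idealMod I))) := by
    rw [← KoszTw.tensorBi_map_app]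
    have h4 : Epi ((DCoh.tensorBi.flip.obj (ClSub.idealMod I)).map q) := inferInstance
    exact h4
  unfold ParSh.twistSub
  rw [imageSubobject_comp_arrow, h1, imageSubobject_epi_comp]

/-- `V' ∩ I·F = I·V'` for a locally split submodule `V'`. -/
theorem pullback_twistSub {S : ShortComplex X.Modules} (hS : S.ShortExact) {n : ℕ}
    (h3 : FlatMod.IsFinLocFreeOfRank n S.X₃) :
    (Subobject.pullback S.f).obj (ParSh.twistSub I S.X₂) = ParSh.twistSub I S.X₁ := by
  have := mono_rD I hS h3
  rw [twistSub_eq, twistSub_eq, pullback_kernelSubobject, toRD_naturality, kernelSubobject_comp_mono]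

/-- `0 → I·V → V → V ⊗ O_D → 0` -/
theorem shortExact_twistSub (V : X.Modules) :
    ∃ w : (ParSh.twistSub I V).arrow ≫ toRD I V = 0,
      (ShortComplex.mk (ParSh.twistSub I V).arrow (toRD I V) w).ShortExact := by
  rw [twistSub_eq]
  refine ⟨kernelSubobject_arrow_comp _, ?_⟩
  refine { exact := ShortComplex.exact_of_f_is_kernel _ ?_ }
  refine KernelFork.IsLimit.ofι' _ _ fun {A} a ha => ?_
  exact ⟨factorThruKernelSubobject (toRD I V) a ha, factorThruKernelSubobject_comp_arrow _ _ _⟩

end Bot

end K958.CurvB
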