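import Groth.Agent.ParSh.K958.HomC
import Mathlib.MeasureTheory.Integral.IntervalIntegral.Basic

/-!
# `parSum f = ∫₀¹ f(E_a) da`
-/

set_option autoImplicit false
universe v u
open CategoryTheory CategoryTheory.Limits MeasureTheory

namespace K958.ParInt

open K958.Abel K958.StrX K958.HomC

variable {C : Type u} [Category.{v} C] [HasImages C] [HasBinaryCoproducts C] [HasInitial C] [InitialMonoClass C]
  {E : C} (𝓔 : ParSh.Str E)

/-- the points of subdivision `0, w₀, …, w_l, 1` -/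
noncomputable def pt (i : ℕ) : ℝ := if i = 0 then 0 else if h : i - 1 < 𝓔.l + 2 then 𝓔.wtX ⟨i - 1, h⟩ else 1

omit [HasImages C] [HasBinaryCoproducts C] [HasInitial C] [InitialMonoClass C] in
theorem pt_zero : pt 𝓔 0 = 0 := if_pos rfl

omit [HasImages C] [HasBinaryCoproducts C] [HasInitial C] [InitialMonoClass C] in
theorem pt_succ (j : Fin (𝓔.l + 2)) : pt 𝓔 (j + 1) = 𝓔.wtX j := by
  unfold pt
  rw [if_neg (Nat.succ_ne_zero _), dif_pos (by simp)]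
  congr 1

omit [HasImages C] [HasBinaryCoproducts C] [HasInitial C] [InitialMonoClass C] in
theorem pt_last : pt 𝓔 (𝓔.l + 2) = 1 := by
  have h := pt_succ 𝓔 (Fin.last (𝓔.l + 1))
  rw [𝓔.wtX_last] at h
  exact h

theorem at_wtX {V : C} (𝓐 : ParSh.Str V) (j : Fin (𝓐.l + 2)) : 𝓐.at (𝓐.wtX j) = 𝓐.pieceX j := by
  induction j using Fin.lastCases with
  | last => rw [𝓐.wtX_last, 𝓐.pieceX_last]; exact 𝓐.at_eq_bot fun j => wt_lt_one 𝓐 j
  | cast j => rw [𝓐.wtX_castSucc, 𝓐.pieceX_castSucc]; exact 𝓐.at_eq_piece j le_rfl fun j' hj' => 𝓐.wt_strictMono hj'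

/-- On `(a_i, a_{i+1}]` the filtration is `E_i`. -/
theorem at_of_mem (i : Fin (𝓔.l + 2)) {a : ℝ} (h1 : pt 𝓔 i < a) (h2 : a ≤ pt 𝓔 (i + 1)) :
    𝓔.at a = 𝓔.pieceX i := by
  rw [pt_succ] at h2
  refine le_antisymm ?_ ?_
  · refine 𝓔.at_le (fun j hj => ?_) (𝓔.bot_le_pieceX i)
    -- `a ≤ w_j` forces `i ≤ j`
    rw [← 𝓔.pieceX_castSucc]
    refine pieceX_anti 𝓔 ?_
    by_contra hcon
    push Not at hcon
    -- `j < i`, so `w_j ≤ w_{i-1} = pt i < a`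
    obtain ⟨i', hi'⟩ : ∃ i' : Fin (𝓔.l + 1), i = i'.succ := by
      refine ⟨i.pred ?_, (Fin.succ_pred _ _).symm⟩
      rintro rfl
      exact absurd hcon (Fin.not_lt_zero _)
    subst hi'
    have h3 : pt 𝓔 (i'.succ : Fin (𝓔.l + 2)) = 𝓔.wt i' := by
      have := pt_succ 𝓔 i'.castSucc
      rw [𝓔.wtX_castSucc] at this
      exact this
    rw [h3] at h1
    have h4 : j ≤ i' := by
      have : (j : ℕ) < (i' : ℕ) + 1 := hcon
      exact Nat.lt_succ_iff.1 this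
    exact absurd (h1.trans_le hj) (not_lt.2 (𝓔.wt_strictMono.monotone h4))
  · rw [← at_wtX]
    exact 𝓔.at_anti h2

omit [HasImages C] [HasBinaryCoproducts C] [HasInitial C] [InitialMonoClass C] in
theorem pt_mono (i : Fin (𝓔.l + 2)) : pt 𝓔 i ≤ pt 𝓔 (i + 1) := by
  induction i using Fin.cases with
  | zero =>
    rw [pt_succ]
    change pt 𝓔 0 ≤ _
    rw [pt_zero, wtX_zero]
    exact wt_nonneg 𝓔 0
  | succ i =>
    rw [pt_succ]
    have h := pt_succ 𝓔 i.castSucc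
    have h' : pt 𝓔 (i.succ : Fin (𝓔.l + 2)) = 𝓔.wtX i.castSucc := h
    rw [h']
    have := dw_pos 𝓔 i
    unfold dw at this
    linarith

theorem intervalIntegrable (f : C → ℝ) (i : Fin (𝓔.l + 2)) :
    IntervalIntegrable (fun a => f (𝓔.at a : C)) volume (pt 𝓔 i) (pt 𝓔 (i + 1)) ∧
      ∫ a in (pt 𝓔 i)..(pt 𝓔 (i + 1)), f (𝓔.at a : C) = (pt 𝓔 (i + 1) - pt 𝓔 i) * f (𝓔.pieceX i : C) := by
  have hcongr : ∀ a ∈ Set.uIoc (pt 𝓔 i) (pt 𝓔 (i + 1)), f (𝓔.at a : C) = f (𝓔.pieceX i : C) := by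
    intro a ha
    rw [Set.uIoc_of_le (pt_mono 𝓔 i)] at ha
    rw [at_of_mem 𝓔 i ha.1 ha.2]
  constructor
  · exact (intervalIntegrable_const (c := f (𝓔.pieceX i : C))).congr (fun a ha => (hcongr a ha).symm)
  · rw [intervalIntegral.integral_congr_ae (Filter.Eventually.of_forall hcongr), intervalIntegral.integral_const,
      smul_eq_mul]

theorem parSum_eq_integral (f : C → ℝ) : 𝓔.parSum f = ∫ a in (0 : ℝ)..1, f (𝓔.at a : C) := by
  have h := intervalIntegral.sum_integral_adjacent_intervals (n := 𝓔.l + 2) (a := pt 𝓔) (μ := volume)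
    (f := fun a => f (𝓔.at a : C)) fun i hi => (intervalIntegrable 𝓔 f ⟨i, hi⟩).1
  rw [pt_zero, pt_last] at h
  rw [← h, Finset.sum_range, Fin.sum_univ_succ, parSum_eq]
  refine congrArg₂ (fun x y : ℝ => x + y) ?_ (Finset.sum_congr rfl fun j _ => ?_)
  · have h0 := (intervalIntegrable 𝓔 f 0).2
    have h1 : pt 𝓔 ((0 : Fin (𝓔.l + 2)) : ℕ) = 0 := pt_zero 𝓔
    have h2 : pt 𝓔 ((0 : Fin (𝓔.l + 2)) + 1 : ℕ) = 𝓔.wt 0 := by rw [pt_succ, wtX_zero]
    rw [h0, h1, h2, sub_zero]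
  · have h0 := (intervalIntegrable 𝓔 f j.succ).2
    have h1 : pt 𝓔 (j.succ : Fin (𝓔.l + 2)) = 𝓔.wtX j.castSucc := pt_succ 𝓔 j.castSucc
    have h2 : pt 𝓔 ((j.succ : Fin (𝓔.l + 2)) + 1 : ℕ) = 𝓔.wtX j.succ := pt_succ 𝓔 j.succ
    rw [h0, h1, h2]
    rfl

theorem integrable_at (f : C → ℝ) : IntervalIntegrable (fun a => f (𝓔.at a : C)) volume 0 1 := by
  have h := IntervalIntegrable.trans_iterate (n := 𝓔.l + 2) (a := pt 𝓔) (μ := volume)
    (f := fun a => f (𝓔.at a : C)) fun i hi => (intervalIntegrable 𝓔 f ⟨i, hi⟩).1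
  rwa [pt_zero, pt_last] at h

/-- Comparison of two weighted sums. -/
theorem parSum_le {F : C} (𝓕 : ParSh.Str F) (f g : C → ℝ)
    (h : ∀ a : ℝ, 0 ≤ a → a ≤ 1 → f (𝓔.at a : C) ≤ g (𝓕.at a : C)) : 𝓔.parSum f ≤ 𝓕.parSum g := by
  rw [parSum_eq_integral, parSum_eq_integral]
  exact intervalIntegral.integral_mono_on zero_le_one (integrable_at 𝓔 f) (integrable_at 𝓕 g)
    fun a ha => h a ha.1 ha.2

end K958.ParInt
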