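import Groth.Agent.ParSh.K958.CurvB
import Groth.Agent.ParSh.K958.ParInt

/-!
# Comparison of parabolic degrees along a monomorphism of equal rank on a curve
-/

set_option autoImplicit false
universe v u
open CategoryTheory CategoryTheory.Limits AlgebraicGeometry

namespace K958.CurvC

open Groth.Agent Groth.Agent.CycB.StalkExact Groth.Agent.VarietyA.DegRank K707.Base K707.Deg K707.Slope K707.Semi
open K958.GpBase K958.CurvA K958.CurvB K958.StrX K958.HomC K958.ParInt

variable {k : Type u} [Field k] {X : Scheme.{u}} [X.Over (Spec (CommRingCat.of k))] [IsIntegral X]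
  [IsProper (X ↘ Spec (CommRingCat.of k))] {I : X.IdealSheafData}

theorem finite_support (C : Crv k X) {N : X.Modules} (hN : Coh.IsCoh N)
    (h : Subsingleton (N.presheaf.stalk (genericPoint X))) :
    (CohB1.support N).Finite ∧ ∀ x ∈ CohB1.support N, IsClosed ({x} : Set X) := by
  have := isNoetherian k (X := X)
  have hs := dim_support_le_zero C.dim.le N hN (not_mem_support h)
  exact ⟨Groth.Agent.VarietyA.GlobGen.finite_support N hN.2 hs,
    fun x hx => Groth.Agent.VarietyA.GlobGen.isClosed_singleton_of_mem_support N hN.2 hs hx⟩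

/-- `E/P` for `I·E ≤ P ≤ E` is a quotient of `E ⊗ O_D`. -/
theorem exists_epi (E : X.Modules) (P : Subobject E) (hP : ParSh.twistSub I E ≤ P) :
    ∃ p : (rD I).obj E ⟶ cokernel P.arrow, Epi p := by
  obtain ⟨w, hS⟩ := shortExact_twistSub I E
  have h1 : (ParSh.twistSub I E).arrow ≫ cokernel.π P.arrow = 0 := by
    rw [← Subobject.ofLE_arrow hP, Category.assoc, cokernel.condition, comp_zero]
  let D := CokernelCofork.IsColimit.desc' hS.gIsCokernel (cokernel.π P.arrow) h1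
  refine ⟨D.1, ?_⟩
  have h2 : toRD I E ≫ D.1 = cokernel.π P.arrow := D.2
  have : Epi (toRD I E ≫ D.1) := by rw [h2]; infer_instance
  exact epi_of_epi (toRD I E) D.1

theorem cokernel_facts (C : Crv k X) (hD : FGA.IsEffCartier I) {n : ℕ} {E : X.Modules}
    (hE : FlatMod.IsFinLocFreeOfRank n E) (P : Subobject E) (hP : ParSh.twistSub I E ≤ P) :
    Coh.IsCoh (cokernel P.arrow) ∧ Subsingleton ((cokernel P.arrow).presheaf.stalk (genericPoint X)) := by
  have := isNoetherian k (X := X)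
  obtain ⟨p, hp⟩ := exists_epi E P hP
  have h1 := coh_rD I hE
  have h2 := subsingleton_rD hD E
  obtain ⟨h3, h4⟩ := finite_support C h1 h2
  exact ⟨isCoh_of_epi_finite p h1 h3 h4, subsingleton_of_epi p _ h2⟩

/-- Submodules between `I·E` and `E` are coherent, of the rank of `E`. -/
theorem coh_of_le (C : Crv k X) (hD : FGA.IsEffCartier I) {n : ℕ} {E : X.Modules}
    (hE : FlatMod.IsFinLocFreeOfRank n E) (P : Subobject E) (hP : ParSh.twistSub I E ≤ P) :
    Coh.IsCoh (P : X.Modules) ∧ rk (P : X.Modules) = n := by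
  have := isNoetherian k (X := X)
  obtain ⟨h1, h2⟩ := cokernel_facts C hD hE P hP
  have h3 := Sga67.CohBasic.isCoh_X₁ (shortExact_sub P) (isCoh_of_rank hE) h1.1
  refine ⟨h3, ?_⟩
  have h4 := (mono_numbers C P.arrow h3 (isCoh_of_rank hE)).1
  rw [rk_eq_zero_of_subsingleton h2, rk_of_rank hE] at h4
  omega

theorem euler_twistSub (C : Crv k X) (hD : FGA.IsEffCartier I) {n : ℕ} {E : X.Modules}
    (hE : FlatMod.IsFinLocFreeOfRank n E) :
    Curv2.euler k X ((ParSh.twistSub I E : Subobject E) : X.Modules) =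
      Curv2.euler k X E - n * dg k (ClSub.quotMod I) := by
  obtain ⟨w, hS⟩ := shortExact_twistSub I E
  have h1 := Groth.Agent.S1524.result k X _ hS (coh_of_le C hD hE _ le_rfl).1 (isCoh_of_rank hE) (coh_rD I hE)
  have h2 := dg_eq_euler_of_torsion k (subsingleton_rD hD E)
  rw [dg_rD k C.dim hD hE] at h2
  simp only at h1
  omega

theorem parWt_eq {E : X.Modules} (𝓔 : ParSh.Str E) :
    𝓔.parWt k X = 𝓔.parSum (fun G => (Curv2.euler k X G : ℝ)) - (Curv2.euler k X (𝓔.bot : X.Modules) : ℝ) := by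
  unfold ParSh.Str.parWt ParSh.Str.parSum
  ring

theorem parDeg_eq (C : Crv k X) (hD : FGA.IsEffCartier I) {n : ℕ} {E : X.Modules}
    (hE : FlatMod.IsFinLocFreeOfRank n E) (𝓔 : ParSh.Str E) (h : 𝓔.bot = ParSh.twistSub I E) :
    𝓔.parDeg k X n = 𝓔.parSum (fun G => (Curv2.euler k X G : ℝ)) +
      (n : ℝ) * ((dg k (ClSub.quotMod I) : ℝ) - Curv2.euler k X (Coh.structureModule X)) := by
  unfold ParSh.Str.parDeg
  rw [parWt_eq, h, euler_twistSub C hD hE]
  have h1 := euler_eq_dg k E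
  rw [dg_of_rank k hE, rk_of_rank hE] at h1
  rw [h1]
  push_cast
  ring

/-- The comparison of parabolic degrees. -/
theorem parDeg_le (C : Crv k X) (hD : FGA.IsEffCartier I) {n : ℕ} {V V' : X.Modules}
    (hV : FlatMod.IsFinLocFreeOfRank n V) (hV' : FlatMod.IsFinLocFreeOfRank n V') (u : V ⟶ V') [Mono u]
    (𝓐 : ParSh.Str V) (𝓑 : ParSh.Str V') (hA : 𝓐.bot = ParSh.twistSub I V) (hB : 𝓑.bot = ParSh.twistSub I V')
    (h : ∀ a : ℝ, 0 ≤ a → a ≤ 1 → (𝓑.at a).Factors ((𝓐.at a).arrow ≫ u)) :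
    𝓐.parDeg k X n ≤ 𝓑.parDeg k X n := by
  rw [parDeg_eq C hD hV 𝓐 hA, parDeg_eq C hD hV' 𝓑 hB]
  refine add_le_add_left (parSum_le 𝓐 𝓑 _ _ fun a h0 h1 => ?_) _
  obtain ⟨a1, a2⟩ := coh_of_le C hD hV (𝓐.at a) (hA ▸ 𝓐.bot_le_at a)
  obtain ⟨b1, b2⟩ := coh_of_le C hD hV' (𝓑.at a) (hB ▸ 𝓑.bot_le_at a)
  let i : ((𝓐.at a : Subobject V) : X.Modules) ⟶ ((𝓑.at a : Subobject V') : X.Modules) :=
    (𝓑.at a).factorThru _ (h a h0 h1)
  have hi : i ≫ (𝓑.at a).arrow = (𝓐.at a).arrow ≫ u := Subobject.factorThru_arrow _ _ _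
  have hm : Mono i := by
    have h3 : Mono (i ≫ (𝓑.at a).arrow) := by rw [hi]; exact mono_comp _ _
    exact mono_of_mono i (𝓑.at a).arrow
  have h4 := dg_le_of_mono C i a1 b1 (by rw [a2, b2])
  have h5 := euler_eq_dg k ((𝓐.at a : Subobject V) : X.Modules)
  have h6 := euler_eq_dg k ((𝓑.at a : Subobject V') : X.Modules)
  rw [a2] at h5
  rw [b2] at h6
  have h7 : Curv2.euler k X ((𝓐.at a : Subobject V) : X.Modules) ≤ Curv2.euler k X ((𝓑.at a : Subobject V') : X.Modules) := by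
    rw [h5, h6]; linarith
  exact_mod_cast h7

end K958.CurvC
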