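import Groth.Agent.ParSh.K958.StrX

/-!
# The real filtration of induced and coinduced structures; parabolic homomorphisms
-/

set_option autoImplicit false
universe v u
open CategoryTheory CategoryTheory.Limits

namespace K958.HomC

open K958.Abel K958.StrX

variable {C : Type u} [Category.{v} C] [Abelian C]

/-- The value of the real filtration only depends on the weights. -/
theorem at_cases {E : C} (𝓔 : ParSh.Str E) (a : ℝ) :
    (∃ j : Fin (𝓔.l + 1), a ≤ 𝓔.wt j ∧ ∀ j' < j, 𝓔.wt j' < a) ∨ ∀ j, 𝓔.wt j < a := by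
  by_cases h : ∃ j, a ≤ 𝓔.wt j
  · obtain ⟨j, hj, hmin⟩ := WellFounded.has_min wellFounded_lt {j | a ≤ 𝓔.wt j} h
    exact Or.inl ⟨j, hj, fun j' hj' => not_le.1 fun h' => hmin j' h' hj'⟩
  · push Not at h
    exact Or.inr h

theorem at_induced {E W : C} (𝓔 : ParSh.Str E) (ι : W ⟶ E) (a : ℝ) :
    (𝓔.induced ι).at a = (Subobject.pullback ι).obj (𝓔.at a) := by
  rcases at_cases 𝓔 a with ⟨j, hj, hlt⟩ | h
  · rw [𝓔.at_eq_piece j hj hlt]
    exact (𝓔.induced ι).at_eq_piece j hj hlt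
  · rw [𝓔.at_eq_bot h]
    exact (𝓔.induced ι).at_eq_bot h

theorem at_coinduced {E G : C} (𝓔 : ParSh.Str E) (p : E ⟶ G) [Epi p] (a : ℝ) :
    (𝓔.coinduced p).at a = imageSubobject ((𝓔.at a).arrow ≫ p) := by
  rcases at_cases 𝓔 a with ⟨j, hj, hlt⟩ | h
  · rw [𝓔.at_eq_piece j hj hlt]
    exact (𝓔.coinduced p).at_eq_piece j hj hlt
  · rw [𝓔.at_eq_bot h]
    exact (𝓔.coinduced p).at_eq_bot h

theorem coinduced_le_induced {E F V : C} (𝓔 : ParSh.Str E) (𝓕 : ParSh.Str F) (q : E ⟶ V) [Epi q] (u : V ⟶ F) {a : ℝ}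
    (h : (𝓕.at a).Factors ((𝓔.at a).arrow ≫ q ≫ u)) :
    (𝓔.coinduced q).at a ≤ (𝓕.induced u).at a := by
  rw [at_induced, at_coinduced]
  have hsq := Subobject.isPullback u (𝓕.at a)
  refine imageSubobject_le _ (hsq.lift ((𝓕.at a).factorThru _ h) ((𝓔.at a).arrow ≫ q) ?_) (hsq.lift_snd _ _ _)
  rw [Subobject.factorThru_arrow, Category.assoc]

end K958.HomC
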