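import Groth.Agent.ParSh.K958.CurvC
import Groth.Agent.ParSh.K958.HomC
import Groth.Agent.Ega1.GenPts
import Groth.Agent.CalgA.RegBasic
import Groth.Agent.S1535
import Mathlib.AlgebraicGeometry.Geometrically.Connected

/-!
# Parabolic degrees of images on a smooth curve
-/

set_option autoImplicit false
universe v u
open CategoryTheory CategoryTheory.Limits AlgebraicGeometry

namespace K958.CurvD

open Groth.Agent Groth.Agent.CycB.StalkExact Groth.Agent.VarietyA.DegRank K707.Base K707.Deg K707.Slope K707.Semi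
open K958.GpBase K958.CurvA K958.CurvB K958.CurvC K958.StrX K958.HomC K958.ParInt K958.Abel

/-- A smooth geometrically connected scheme over a field is integral. -/
theorem isIntegral_of_smooth (k : Type u) [Field k] (X : Scheme.{u}) [X.Over (Spec (CommRingCat.of k))]
    [Smooth (X ↘ Spec (CommRingCat.of k))] [GeometricallyConnected (X ↘ Spec (CommRingCat.of k))] :
    IsIntegral X := by
  have : IsLocallyNoetherian X := LocallyOfFiniteType.isLocallyNoetherian (X ↘ Spec (CommRingCat.of k))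
  have : ConnectedSpace X :=
    GeometricallyConnected.connectedSpace_of_subsingleton (X ↘ Spec (CommRingCat.of k))
  refine (Ega1.GenPts.isIntegral_iff X).2 ⟨inferInstance, fun x => ?_⟩
  have := Groth.Agent.S1535.result k X x
  exact CalgA.RegBasic.isDomain _

section Abstract

variable {C : Type u} [Category.{v} C] [Abelian C]

theorem str_ext {E : C} (𝓐 𝓑 : ParSh.Str E) (hl : 𝓐.l = 𝓑.l)
    (hw : ∀ j, 𝓐.wt j = 𝓑.wt (Fin.cast (by rw [hl]) j))
    (hp : ∀ j, 𝓐.piece j = 𝓑.piece (Fin.cast (by rw [hl]) j)) (hb : 𝓐.bot = 𝓑.bot) : 𝓐 = 𝓑 := by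
  cases 𝓐
  cases 𝓑
  simp only at hl
  subst hl
  simp only [Fin.cast_eq_self] at hw hp hb
  have h1 := funext hw
  have h2 := funext hp
  subst h1 h2 hb
  rfl

theorem induced_induced {E F G : C} (𝓔 : ParSh.Str E) (f : F ⟶ E) (g : G ⟶ F) :
    (𝓔.induced f).induced g = 𝓔.induced (g ≫ f) := by
  refine str_ext _ _ rfl (fun _ => rfl) (fun j => ?_) ?_
  · exact (Subobject.pullback_comp g f _).symm
  · exact (Subobject.pullback_comp g f _).symm

theorem coinduced_coinduced {E F G : C} (𝓔 : ParSh.Str E) (f : E ⟶ F) [Epi f] (g : F ⟶ G) [Epi g] [Epi (f ≫ g)] :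
    (𝓔.coinduced f).coinduced g = 𝓔.coinduced (f ≫ g) := by
  refine str_ext _ _ rfl (fun _ => rfl) (fun j => ?_) ?_
  · change imageSubobject ((imageSubobject ((𝓔.piece j).arrow ≫ f)).arrow ≫ g) = imageSubobject ((𝓔.piece j).arrow ≫ f ≫ g)
    rw [imageSubobject_comp_arrow, Category.assoc]
  · change imageSubobject ((imageSubobject (𝓔.bot.arrow ≫ f)).arrow ≫ g) = imageSubobject (𝓔.bot.arrow ≫ f ≫ g)
    rw [imageSubobject_comp_arrow, Category.assoc]

/-- A parabolic homomorphism `q ≫ u ≫ ι` induces `u : (𝓔.coinduced q) → (𝓕.induced ι)`. -/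
theorem factors_of_factor {E F V V' : C} (𝓔 : ParSh.Str E) (𝓕 : ParSh.Str F) (q : E ⟶ V) [Epi q] (u : V ⟶ V')
    (ι : V' ⟶ F) {a : ℝ} (h : (𝓕.at a).Factors ((𝓔.at a).arrow ≫ q ≫ u ≫ ι)) :
    ((𝓕.induced ι).at a).Factors (((𝓔.coinduced q).at a).arrow ≫ u) := by
  have h1 := coinduced_le_induced 𝓔 𝓕 q (u ≫ ι) h
  rw [← induced_induced, at_induced (𝓕.induced ι) u] at h1
  have hsq := Subobject.isPullback u ((𝓕.induced ι).at a)
  have h2 : ((𝓔.coinduced q).at a).arrow ≫ u =
      (Subobject.ofLE _ _ h1 ≫ Subobject.pullbackπ u ((𝓕.induced ι).at a)) ≫ ((𝓕.induced ι).at a).arrow := by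
    rw [Category.assoc, hsq.w, ← Category.assoc, Subobject.ofLE_arrow]
  rw [h2]
  exact Subobject.factors_comp_arrow _

end Abstract

end K958.CurvD
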