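import Groth.Agent.ParSh.K958.CurvD

/-!
# Parabolic degrees of images on a smooth curve: comparison, additivity and the vanishing of
parabolic homomorphisms of a stable extension
-/

set_option autoImplicit false
universe v u
open CategoryTheory CategoryTheory.Limits AlgebraicGeometry

namespace K958.CurvE

open Groth.Agent Groth.Agent.CycB.StalkExact Groth.Agent.VarietyA.DegRank K707.Base K707.Deg K707.Slope K707.Semi
open K958.GpBase K958.CurvA K958.CurvB K958.CurvC K958.CurvD K958.StrX K958.HomC K958.ParInt K958.Abel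

variable {k : Type u} [Field k] {X : Scheme.{u}} [X.Over (Spec (CommRingCat.of k))] [IsIntegral X]
  [IsProper (X ↘ Spec (CommRingCat.of k))] {I : X.IdealSheafData}

omit [IsIntegral X] in
theorem along_coinduced {E V : X.Modules} (q : E ⟶ V) [Epi q] (𝓔 : ParSh.Str E) (h : 𝓔.Along I) :
    (𝓔.coinduced q).Along I := by
  change imageSubobject (𝓔.bot.arrow ≫ q) = ParSh.twistSub I V
  have h' : 𝓔.bot = ParSh.twistSub I E := h
  rw [h']
  exact image_twistSub I q

theorem along_induced {S : ShortComplex X.Modules} (hS : S.ShortExact) (𝓕 : ParSh.Str S.X₂) (h : 𝓕.Along I)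
    (hsat : FlatMod.IsFinLocFree S.X₃) : (𝓕.induced S.f).Along I := by
  change (Subobject.pullback S.f).obj 𝓕.bot = ParSh.twistSub I S.X₁
  have h' : 𝓕.bot = ParSh.twistSub I S.X₂ := h
  rw [h']
  exact pullback_twistSub I hS (isFinLocFreeOfRank_rk hsat)

/-- The parabolic degree of an image is at most that of its saturation. -/
theorem parDeg_image_le (C : Crv k X) (hD : FGA.IsEffCartier I) {E F V V' : X.Modules} {n : ℕ}
    (𝓔 : ParSh.Str E) (h𝓔 : 𝓔.Along I) (𝓕 : ParSh.Str F) (q : E ⟶ V) [Epi q] (u : V ⟶ V') [Mono u] (ι : V' ⟶ F)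
    (hφ : ParSh.IsParHom 𝓔 𝓕 (q ≫ u ≫ ι)) (hV : FlatMod.IsFinLocFreeOfRank n V)
    (hV' : FlatMod.IsFinLocFreeOfRank n V') (h𝓕 : (𝓕.induced ι).Along I) :
    (𝓔.coinduced q).parDeg k X n ≤ (𝓕.induced ι).parDeg k X n :=
  parDeg_le C hD hV hV' u _ _ (along_coinduced q 𝓔 h𝓔) h𝓕 fun _ h0 h1 =>
    factors_of_factor 𝓔 𝓕 q u ι (hφ _ h0 h1)


section Add

variable {S : ShortComplex X.Modules}

theorem twistSub_le_at {E : X.Modules} (𝓔 : ParSh.Str E) (h : 𝓔.Along I) (a : ℝ) : ParSh.twistSub I E ≤ 𝓔.at a := by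
  have h' : 𝓔.bot = ParSh.twistSub I E := h
  rw [← h']
  exact 𝓔.bot_le_at a

theorem euler_add_of (C : Crv k X) {A B D : X.Modules} (f : A ⟶ B) (g : B ⟶ D)
    (hS : ∃ w : f ≫ g = 0, (ShortComplex.mk f g w).ShortExact) (hA : Coh.IsCoh A) (hB : Coh.IsCoh B)
    (hD : Coh.IsCoh D) : Curv2.euler k X B = Curv2.euler k X A + Curv2.euler k X D := by
  obtain ⟨w, hS⟩ := hS
  have h := Groth.Agent.S1524.result k X (ShortComplex.mk f g w) hS hA hB hD
  exact h

theorem euler_at_add (C : Crv k X) (hD : FGA.IsEffCartier I) (hS : S.ShortExact) [Epi S.g] (h1 : FlatMod.IsFinLocFree S.X₁)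
    (h2 : FlatMod.IsFinLocFree S.X₂) (h3 : FlatMod.IsFinLocFree S.X₃) (𝓕 : ParSh.Str S.X₂) (h : 𝓕.Along I) (a : ℝ) :
    Curv2.euler k X ((𝓕.at a : Subobject S.X₂) : X.Modules) =
      Curv2.euler k X (((𝓕.induced S.f).at a : Subobject S.X₁) : X.Modules) +
        Curv2.euler k X (((𝓕.coinduced S.g).at a : Subobject S.X₃) : X.Modules) := by
  have a1 := (coh_of_le C hD (isFinLocFreeOfRank_rk h1) _ (twistSub_le_at _ (along_induced hS 𝓕 h h3) a)).1
  have a2 := (coh_of_le C hD (isFinLocFreeOfRank_rk h2) _ (twistSub_le_at _ h a)).1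
  have a3 := (coh_of_le C hD (isFinLocFreeOfRank_rk h3) _ (twistSub_le_at _ (along_coinduced S.g 𝓕 h) a)).1
  rw [at_induced] at a1 ⊢
  rw [at_coinduced] at a3 ⊢
  exact euler_add_of C _ _ (shortExact_induced_coinduced S.f S.g S.zero hS (𝓕.at a)) a1 a2 a3

/-- The parabolic degree is additive. -/
theorem parDeg_add (C : Crv k X) (hD : FGA.IsEffCartier I) (hS : S.ShortExact) [Epi S.g] {n₁ n₂ n₃ : ℕ}
    (h1 : FlatMod.IsFinLocFreeOfRank n₁ S.X₁) (h2 : FlatMod.IsFinLocFreeOfRank n₂ S.X₂)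
    (h3 : FlatMod.IsFinLocFreeOfRank n₃ S.X₃) (𝓕 : ParSh.Str S.X₂) (h : 𝓕.Along I) :
    𝓕.parDeg k X n₂ = (𝓕.induced S.f).parDeg k X n₁ + (𝓕.coinduced S.g).parDeg k X n₃ := by
  have hr := rk_add' k S hS (isCoh_of_rank h2)
  rw [rk_of_rank h1, rk_of_rank h2, rk_of_rank h3] at hr
  rw [parDeg_eq C hD h2 𝓕 h,
    parDeg_eq C hD h1 (𝓕.induced S.f) (along_induced hS 𝓕 h (isFinLocFree_of_rank h3)),
    parDeg_eq C hD h3 (𝓕.coinduced S.g) (along_coinduced S.g 𝓕 h)]
  have hs : 𝓕.parSum (fun G => (Curv2.euler k X G : ℝ)) =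
      (𝓕.induced S.f).parSum (fun G => (Curv2.euler k X G : ℝ)) +
        (𝓕.coinduced S.g).parSum (fun G => (Curv2.euler k X G : ℝ)) := by
    have i1 := integrable_at (𝓕.induced S.f) (fun G => (Curv2.euler k X G : ℝ))
    have i2 := integrable_at (𝓕.coinduced S.g) (fun G => (Curv2.euler k X G : ℝ))
    rw [parSum_eq_integral, parSum_eq_integral, parSum_eq_integral, ← intervalIntegral.integral_add i1 i2]
    refine intervalIntegral.integral_congr fun a _ => ?_
    have := euler_at_add C hD hS (isFinLocFree_of_rank h1) (isFinLocFree_of_rank h2) (isFinLocFree_of_rank h3) 𝓕 h a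
    exact_mod_cast this
  rw [hs, hr]
  push_cast
  ring

end Add

/-- Parabolic homomorphisms `F'' → F'` vanish for an extension `0 → F' → F → F'' → 0` with `F` stable. -/
theorem hom_eq_zero (C : Crv k X) (hD : FGA.IsEffCartier I) {S : ShortComplex X.Modules} (hS : S.ShortExact) [Epi S.g]
    {r : ℕ} (h2 : FlatMod.IsFinLocFreeOfRank r S.X₂) (h1 : FlatMod.IsFinLocFree S.X₁) (h3 : FlatMod.IsFinLocFree S.X₃)
    (𝓕 : ParSh.Str S.X₂) (h : 𝓕.Along I) (hst : ParSh.IsParStable k X 𝓕 r) (φ : S.X₃ ⟶ S.X₁)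
    (hφ : ParSh.IsParHom (𝓕.coinduced S.g) (𝓕.induced S.f) φ) : φ = 0 := by
  by_contra h0
  obtain ⟨V, q, m, hq, hm, hqm, hV, hpos, e1, -, e3, -⟩ := exists_factor_pos C φ h0 (coh_of_vb h3) h1
  obtain ⟨V', Q, a, j, qq, w, ha, haj, hT, hV'c, hQ, hrk, -, -, -⟩ := exists_saturation C m (coh_of_vb hV) (coh_of_vb h1)
  have hj : Mono j := hT.mono_f
  have hi : Mono S.f := hS.mono_f
  have hV' : FlatMod.IsFinLocFree V' := vb_of_mono C j hV'c h1
  have hr := rk_add' k S hS (isCoh_of_rank h2)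
  rw [rk_of_rank h2] at hr
  have hVr := isFinLocFreeOfRank_rk hV
  have hV'r := isFinLocFreeOfRank_rk hV'
  rw [hrk] at hV'r
  -- the comparison
  have hAi := along_induced hS 𝓕 h h3
  have hAc := along_coinduced S.g 𝓕 h
  have k1 := parDeg_image_le C hD (𝓕.coinduced S.g) hAc (𝓕.induced S.f) q a j
    (by rw [haj, hqm]; exact hφ) hVr hV'r (along_induced hT (𝓕.induced S.f) hAi hQ)
  have : Epi (S.g ≫ q) := epi_comp _ _
  rw [coinduced_coinduced, induced_induced] at k1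
  -- stability on `V'`
  have k2 := hst V' (rk V) (j ≫ S.f) (mono_comp _ _) hpos (by omega) hV'r
  -- stability on the kernel
  have hG := vb_kernel C (S.g ≫ q) (isFinLocFree_of_rank h2) (coh_of_vb hV)
  have hK := kernel_shortExact (S.g ≫ q)
  have hr' := rk_add' k _ hK (isCoh_of_rank h2)
  simp only at hr'
  rw [rk_of_rank h2] at hr'
  have k3 := hst (kernel (S.g ≫ q)) (rk (kernel (S.g ≫ q))) (kernel.ι _) inferInstance (by omega) (by omega)
    (isFinLocFreeOfRank_rk hG)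
  have hepi : Epi (ShortComplex.mk (kernel.ι (S.g ≫ q)) (S.g ≫ q) (kernel.condition _)).g := this
  have k4 := parDeg_add C hD hK (isFinLocFreeOfRank_rk hG) h2 hVr 𝓕 h
  simp only at k4
  have hr'' : (r : ℝ) = rk (kernel (S.g ≫ q)) + rk V := by exact_mod_cast hr'
  have hrp : (0 : ℝ) < r := by
    have : 0 < r := by omega
    exact_mod_cast this
  have k5 : (𝓕.coinduced (S.g ≫ q)).parDeg k X (rk V) * r ≤ (𝓕.induced (j ≫ S.f)).parDeg k X (rk V) * r :=
    mul_le_mul_of_nonneg_right k1 hrp.le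
  have k6 : 𝓕.parDeg k X r * r = (𝓕.induced (kernel.ι (S.g ≫ q))).parDeg k X (rk (kernel (S.g ≫ q))) * r +
      (𝓕.coinduced (S.g ≫ q)).parDeg k X (rk V) * r := by
    rw [k4]; ring
  have k7 : 𝓕.parDeg k X r * r = 𝓕.parDeg k X r * rk (kernel (S.g ≫ q)) + 𝓕.parDeg k X r * rk V := by
    rw [← mul_add, ← hr'']
  linarith

end K958.CurvE
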