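import Groth.Agent.VBCurve.K707.TensL
import Groth.Agent.Dcoh.StalkT
import Groth.Agent.PerfC.FlatExact
import Groth.Agent.VarietyB.DegCartier
import Groth.Agent.VarietyA.EulerLES
import Groth.Agent.ParSh.K958.TwistSupp
import Groth.Prelude.Def_ParBun2
import Groth.Prelude.Def_FGA

/-!
# Restriction to a divisor on a smooth curve: exactness, degrees, kernels on global sections

`rD I = - ⊗ O_D`.  For a monomorphism `f : E ⟶ F` of locally free modules of the same rank,
`dim ker (H⁰(E ⊗ O_D) → H⁰(F ⊗ O_D)) ≤ deg F - deg E`.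
-/

set_option autoImplicit false
universe u
open CategoryTheory CategoryTheory.Limits AlgebraicGeometry

namespace K958.GpBase

open Groth.Agent Groth.Agent.CycB.StalkExact Groth.Agent.VarietyA.DegRank K707.Base K707.Deg K707.Slope K707.Semi
open Groth.Agent.VarietyA.EulerLES

section Fun

variable {X : Scheme.{u}} (I : X.IdealSheafData)

/-- the two functors `- ⊗ N` agree -/
noncomputable def tensorRightModIso (N : X.Modules) :
    DCoh.tensorBi.flip.obj N ≅ DCoh.tensorRightMod N :=
  NatIso.ofComponents (fun _ => Iso.refl _) (by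
    intro M M' f
    simp only [Iso.refl_hom]
    rfl)

/-- `- ⊗ O_D` -/
noncomputable def rD : X.Modules ⥤ X.Modules := DCoh.tensorRightMod (ClSub.quotMod I)

theorem rD_obj (E : X.Modules) : (rD I).obj E = CohB1.tensorMod E (ClSub.quotMod I) := rfl

theorem rD_map {E F : X.Modules} (f : E ⟶ F) : (rD I).map f = ParSh.resDMap I f :=
  KoszTw.tensorRightMod_map f (ClSub.quotMod I)

instance : PreservesFiniteColimits (rD I) :=
  have : PreservesFiniteColimits (DCoh.tensorBi.flip.obj (ClSub.quotMod I)) := inferInstance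
  preservesFiniteColimits_of_natIso (tensorRightModIso (ClSub.quotMod I))

instance : (rD I).Additive := DCoh.additive_tensorRightMod _

/-- Right exactness. -/
theorem rD_exact (S : ShortComplex X.Modules) (hS : S.Exact) [Epi S.g] :
    (S.map (rD I)).Exact ∧ Epi ((rD I).map S.g) :=
  ⟨hS.map_of_epi_of_preservesCokernel _ inferInstance inferInstance, inferInstance⟩

theorem splitMono_stalk {S : ShortComplex X.Modules} (hS : S.ShortExact) {n : ℕ}
    (h3 : FlatMod.IsFinLocFreeOfRank n S.X₃) (x : X) : IsSplitMono ((Dcoh.Stalk.stalkF x).map S.f) := by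
  have h := hS.map_of_exact (Dcoh.Stalk.stalkF x)
  obtain ⟨b⟩ := exists_basis h3 x
  have hp : Projective ((S.map (Dcoh.Stalk.stalkF x)).X₃) := ModuleCat.projective_of_free b
  have s := h.splittingOfProjective
  exact ⟨⟨s.r, s.f_r⟩⟩

theorem mono_map_of_split {C D : Type*} [Category* C] [Category* D] (G : C ⥤ D) {A B : C} (f : A ⟶ B)
    (h : IsSplitMono f) : Mono (G.map f) := inferInstance

theorem mono_of_natIso {C D : Type*} [Category* C] [Category* D] {F G : C ⥤ D} (e : F ≅ G) {A B : C} (f : A ⟶ B)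
    (h : Mono (G.map f)) : Mono (F.map f) := by
  have h4 : F.map f = e.hom.app _ ≫ G.map f ≫ e.inv.app _ := by simp
  rw [h4]
  infer_instance

theorem mono_rD {S : ShortComplex X.Modules} (hS : S.ShortExact) {n : ℕ}
    (h3 : FlatMod.IsFinLocFreeOfRank n S.X₃) : Mono ((rD I).map S.f) := by
  rw [PerfC.FlatExact.mono_iff_stalkLin]
  intro x
  have h1 := splitMono_stalk hS h3 x
  have h3 : Mono ((rD I ⋙ Dcoh.Stalk.stalkF x).map S.f) :=
    mono_of_natIso (Functor.isoWhiskerRight (tensorRightModIso (ClSub.quotMod I)).symm _ ≪≫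
      Dcoh.Stalk.tensorBiFlipStalk (ClSub.quotMod I) x) S.f
      (mono_map_of_split (MonoidalCategory.tensorRight ((Dcoh.Stalk.stalkF x).obj (ClSub.quotMod I)))
        ((Dcoh.Stalk.stalkF x).map S.f) h1)
  exact (ModuleCat.mono_iff_injective _).1 h3

theorem rD_shortExact {S : ShortComplex X.Modules} (hS : S.ShortExact) {n : ℕ}
    (h3 : FlatMod.IsFinLocFreeOfRank n S.X₃) : (S.map (rD I)).ShortExact := by
  have := hS.epi_g
  obtain ⟨h1, h2⟩ := rD_exact I S hS.exact
  exact { exact := h1, mono_f := mono_rD I hS h3, epi_g := h2 }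

/-- `M → M ⊗ O_D` -/
noncomputable def toRD' (M : X.Modules) : M ⟶ CohB1.tensorMod M (ClSub.quotMod I) :=
  (SecTwist.unitorR M).inv ≫ KoszTw.tensorMap (𝟙 M) (ClSub.toSubscheme I)

/-- `(rD I).obj M` is `M ⊗ O_D` -/
noncomputable def rDIso (M : X.Modules) : (rD I).obj M ≅ CohB1.tensorMod M (ClSub.quotMod I) := Iso.refl _

/-- `M → M ⊗ O_D` -/
noncomputable def toRD (M : X.Modules) : M ⟶ (rD I).obj M := toRD' I M ≫ (rDIso I M).inv

instance epi_toRD (M : X.Modules) : Epi (toRD I M) := by
  have h0 : Epi (VarietyB.DegCartier.idealSeq I).g := (VarietyB.DegCartier.idealSeq_shortExact I).epi_g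
  have h1 : Epi ((DCoh.tensorBi.obj M).map (ClSub.toSubscheme I)) :=
    (TwistSupp.exact_tensor M _ (VarietyB.DegCartier.idealSeq_shortExact I).exact).2
  have h2 : Epi (KoszTw.tensorMap (𝟙 M) (ClSub.toSubscheme I)) := by
    rw [← KoszTw.tensorBi_obj_map]; exact h1
  have h3 : Epi (toRD' I M) := epi_comp _ _
  exact epi_comp _ _

theorem coh_rD {E : X.Modules} {n : ℕ} (hE : FlatMod.IsFinLocFreeOfRank n E) : Coh.IsCoh ((rD I).obj E) :=
  coh_iso ((Ega2.Tens.swap (ClSub.quotMod I) E) ≪≫ (rDIso I E).symm)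
    (K707.TensL.coh_tensor hE (VarietyB.DegCartier.isCoh_quotMod I))

theorem subsingleton_stalk_rD (M : X.Modules) (x : X) (h : Subsingleton ((ClSub.quotMod I).presheaf.stalk x)) :
    Subsingleton (((rD I).obj M).presheaf.stalk x) := by
  have h1 := TwistSupp.subsingleton_stalk_tensor_right M (ClSub.quotMod I) x h
  exact (stalkLinEquiv (rDIso I M) x).toEquiv.subsingleton

end Fun

section Gen

variable {X : Scheme.{u}} [IsIntegral X] {I : X.IdealSheafData}

/-- The generic point is not on the divisor. -/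
theorem genericPoint_notMem (hD : FGA.IsEffCartier I) : genericPoint X ∉ I.support := by
  intro h
  obtain ⟨U, hxU, a, ha, hIa⟩ := hD (genericPoint X)
  rw [Scheme.IdealSheafData.mem_support_iff_of_mem hxU, hIa] at h
  have hne : Nonempty U.1 := ⟨⟨_, hxU⟩⟩
  have ha0 : a ≠ 0 := nonZeroDivisors.ne_zero ha
  have h1 : genericPoint X ∈ X.basicOpen a := by
    by_contra h2
    apply ha0
    have h3 : X.basicOpen a = ⊥ := by
      rw [← TopologicalSpace.Opens.not_nonempty_iff_eq_bot]
      intro h4
      exact h2 (((genericPoint_spec X).mem_open_set_iff (X.basicOpen a).isOpen).2 (by simpa using h4))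
    exact (basicOpen_eq_bot_iff a).1 h3
  rw [Scheme.mem_zeroLocus_iff] at h
  exact h a (Ideal.mem_span_singleton_self a) h1

theorem subsingleton_quot (hD : FGA.IsEffCartier I) : Subsingleton ((ClSub.quotMod I).presheaf.stalk (genericPoint X)) := by
  by_contra h
  exact genericPoint_notMem hD (VarietyB.DegCartier.support_quotMod_subset I h)

omit [IsIntegral X] in
/-- Quotients of generically zero modules are generically zero. -/
theorem subsingleton_of_epi {M N : X.Modules} (p : M ⟶ N) [Epi p] (x : X) (h : Subsingleton (M.presheaf.stalk x)) :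
    Subsingleton (N.presheaf.stalk x) := (stalkLin_surjective p x).subsingleton

omit [IsIntegral X] in
theorem subsingleton_of_mono {M N : X.Modules} (p : M ⟶ N) [Mono p] (x : X) (h : Subsingleton (N.presheaf.stalk x)) :
    Subsingleton (M.presheaf.stalk x) := (stalkLin_injective p x).subsingleton

theorem subsingleton_rD (hD : FGA.IsEffCartier I) (M : X.Modules) :
    Subsingleton (((rD I).obj M).presheaf.stalk (genericPoint X)) := by
  exact subsingleton_stalk_rD I M _ (subsingleton_quot hD)

end Gen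

section Num

variable (k : Type u) [Field k] {X : Scheme.{u}} [X.Over (Spec (CommRingCat.of k))] [IsIntegral X]
  [IsProper (X ↘ Spec (CommRingCat.of k))] {I : X.IdealSheafData}

theorem dg_rD (hdim : topologicalKrullDim X = 1) (hD : FGA.IsEffCartier I) {E : X.Modules} {n : ℕ}
    (hE : FlatMod.IsFinLocFreeOfRank n E) : dg k ((rD I).obj E) = n * dg k (ClSub.quotMod I) := by
  have h1 := K707.TensL.dg_tensor k hdim hE (VarietyB.DegCartier.isCoh_quotMod I)
  rw [rk_eq_zero_of_subsingleton (subsingleton_quot hD)] at h1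
  have h2 : dg k ((rD I).obj E) = dg k (CohB1.tensorMod (ClSub.quotMod I) E) :=
    dg_iso k (rDIso I E ≪≫ Ega2.Tens.swap E (ClSub.quotMod I))
  rw [h2, h1]
  push_cast
  ring

/-- An epimorphism of generically zero coherent modules does not increase the degree. -/
theorem dg_le_of_epi (C : Crv k X) {M N : X.Modules} (p : M ⟶ N) [Epi p] (hM : Coh.IsCoh M) (hN : Coh.IsCoh N)
    (h : Subsingleton (M.presheaf.stalk (genericPoint X))) : dg k N ≤ dg k M := by
  have h1 := (epi_numbers C p hM hN).2
  have h2 := dg_nonneg_of_torsion k C.dim (coh_kernel C p hM hN) (subsingleton_of_mono (kernel.ι p) _ h)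
  omega

/-- `deg ker (E ⊗ O_D → F ⊗ O_D) ≤ deg F - deg E` for a monomorphism between modules of the same rank. -/
theorem dg_kernel_le (C : Crv k X) (hD : FGA.IsEffCartier I) {E F : X.Modules} {n : ℕ}
    (hE : FlatMod.IsFinLocFreeOfRank n E) (hF : FlatMod.IsFinLocFreeOfRank n F) (f : E ⟶ F) [Mono f] :
    dg k (kernel ((rD I).map f)) ≤ dg k F - dg k E := by
  have hcE := coh_rD I hE
  have hcF := coh_rD I hF
  obtain ⟨J, p, i, -, -, -, -, -, h2, -, h4⟩ := exists_factor C ((rD I).map f) hcE hcF
  rw [dg_rD k C.dim hD hE] at h2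
  rw [dg_rD k C.dim hD hF] at h4
  -- the cokernel
  have hT : Coh.IsCoh (cokernel f) := coh_cokernel f (isCoh_of_rank hE) (isCoh_of_rank hF)
  have hTr : Coh.IsCoh (cokernel ((rD I).map f)) := coh_cokernel _ hcE hcF
  obtain ⟨e1, e2⟩ := mono_numbers C f (isCoh_of_rank hE) (isCoh_of_rank hF)
  rw [rk_of_rank hE, rk_of_rank hF] at e1
  have hT0 : Subsingleton ((cokernel f).presheaf.stalk (genericPoint X)) :=
    subsingleton_of_rk_eq_zero hT (by omega)
  have e : (rD I).obj (cokernel f) ≅ cokernel ((rD I).map f) := PreservesCokernel.iso (rD I) f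
  have hT' : Coh.IsCoh ((rD I).obj (cokernel f)) := coh_iso e.symm hTr
  have h5 := dg_le_of_epi k C (toRD I (cokernel f)) hT hT' hT0
  rw [dg_iso k e] at h5
  omega

end Num

section Sec

variable (k : Type u) [Field k] {X : Scheme.{u}} [X.Over (Spec (CommRingCat.of k))]

theorem HHlin_eq_mapA {M N : X.Modules} (f : M ⟶ N) (n : ℕ) : Canon.HHlin k f n = mapA k f n := by
  apply LinearMap.ext
  intro x
  rfl

theorem fibDMap_eq (I : X.IdealSheafData) {M N : X.Modules} (f : M ⟶ N) :
    ParSh.fibDMap k X I f = mapA k ((rD I).map f) 0 := by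
  rw [rD_map]
  exact HHlin_eq_mapA k _ 0

/-- `dim ker H⁰(g) ≤ dim H⁰(ker g)` -/
theorem finrank_ker_le {M N : X.Modules} (g : M ⟶ N) [IsProper (X ↘ Spec (CommRingCat.of k))]
    (hK : Coh.IsCoh (kernel g)) :
    Module.finrank k (LinearMap.ker (mapA k g 0)) ≤ Module.finrank k (Coh.HH X (kernel g) 0) := by
  let S : ShortComplex X.Modules := ShortComplex.mk (kernel.ι g) (Abelian.factorThruImage g)
    (by rw [← cancel_mono (Abelian.image.ι g)]; simp)
  have hS : S.ShortExact := by
    refine { exact := ?_, mono_f := inferInstanceAs (Mono (kernel.ι g)),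
             epi_g := inferInstanceAs (Epi (Abelian.factorThruImage g)) }
    have hk : IsLimit (KernelFork.ofι (kernel.ι g) S.zero) := by
      refine KernelFork.IsLimit.ofι' _ _ fun {A} a ha => ?_
      refine ⟨kernel.lift g a ?_, kernel.lift_ι _ _ _⟩
      rw [← Abelian.image.fac g, ← Category.assoc]
      exact (congrArg (· ≫ Abelian.image.ι g) ha).trans zero_comp
    exact ShortComplex.exact_of_f_is_kernel _ hk
  let S' : ShortComplex X.Modules := ShortComplex.mk (Abelian.image.ι g) (cokernel.π g)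
    (by rw [← cancel_epi (Abelian.factorThruImage g)]; simp)
  have hS' : S'.ShortExact := by
    refine { exact := ?_, mono_f := inferInstanceAs (Mono (Abelian.image.ι g)),
             epi_g := inferInstanceAs (Epi (cokernel.π g)) }
    exact ShortComplex.exact_of_f_is_kernel _ (kernelIsKernel (cokernel.π g))
  have h1 := exactA₂ k S hS 0
  have h2 := injectiveA₀ k S' hS'
  have h3 : mapA k g 0 = (mapA k (Abelian.image.ι g) 0).comp (mapA k (Abelian.factorThruImage g) 0) := by
    rw [← mapA_comp, Abelian.image.fac]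
  have h4 : LinearMap.ker (mapA k g 0) = LinearMap.range (mapA k (kernel.ι g) 0) := by
    rw [h3, LinearMap.ker_comp_of_ker_eq_bot _ (LinearMap.ker_eq_bot.2 h2)]
    exact LinearMap.exact_iff.1 h1
  have := Groth.Agent.S0002.result k X (kernel g) hK 0
  rw [h4]
  exact LinearMap.finrank_range_le _

variable [IsIntegral X] [IsProper (X ↘ Spec (CommRingCat.of k))] {I : X.IdealSheafData}

/-- Lemma A: `dim ker (H⁰(E ⊗ O_D) → H⁰(F ⊗ O_D)) ≤ deg F - deg E`. -/
theorem finrank_ker_fibDMap_le (C : Crv k X) (hD : FGA.IsEffCartier I) {E F : X.Modules} {n : ℕ}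
    (hE : FlatMod.IsFinLocFreeOfRank n E) (hF : FlatMod.IsFinLocFreeOfRank n F) (f : E ⟶ F) [Mono f] :
    (Module.finrank k (LinearMap.ker (ParSh.fibDMap k X I f)) : ℤ) ≤ dg k F - dg k E := by
  have hK : Coh.IsCoh (kernel ((rD I).map f)) := coh_kernel C _ (coh_rD I hE) (coh_rD I hF)
  have hK0 := subsingleton_of_mono (kernel.ι ((rD I).map f)) (genericPoint X) (subsingleton_rD hD E)
  have h1 := finrank_ker_le k ((rD I).map f) hK
  have h2 := euler_of_torsion k C.dim hK hK0
  have h3 := dg_eq_euler_of_torsion k hK0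
  have h4 := dg_kernel_le k C hD hE hF f
  rw [fibDMap_eq]
  have h5 : (Module.finrank k (LinearMap.ker (mapA k ((rD I).map f) 0)) : ℤ) ≤
      Module.finrank k (Coh.HH X (kernel ((rD I).map f)) 0) := by exact_mod_cast h1
  exact h5.trans (by omega)

omit [IsIntegral X] in
theorem finite_fibD {E : X.Modules} {n : ℕ} (hE : FlatMod.IsFinLocFreeOfRank n E) :
    Module.Finite k (ParSh.fibD X I E) := Groth.Agent.S0002.result k X ((rD I).obj E) (coh_rD I hE) 0

end Sec

end K958.GpBase
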