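import Mathlib.LinearAlgebra.FiniteDimensional.Lemmas
import Mathlib.LinearAlgebra.Dimension.RankNullity
import Mathlib.Algebra.Exact.Basic

/-!
# Dimensions of subspaces under linear maps
-/

set_option autoImplicit false

namespace K958.GpLin

variable {k V W U : Type*} [Field k] [AddCommGroup V] [Module k V] [AddCommGroup W] [Module k W]
  [AddCommGroup U] [Module k U]

theorem finrank_map_of_injective (f : V →ₗ[k] W) (hf : Function.Injective f) (F : Submodule k V) :
    Module.finrank k (F.map f) = Module.finrank k F :=
  (LinearEquiv.finrank_eq (Submodule.equivMapOfInjective f hf F)).symm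

theorem finrank_map_add (q : V →ₗ[k] W) (F : Submodule k V) [Module.Finite k V] :
    Module.finrank k (F.map q) + Module.finrank k (F ⊓ LinearMap.ker q : Submodule k V) = Module.finrank k F := by
  have h := LinearMap.finrank_range_add_finrank_ker (q.domRestrict F)
  rw [LinearMap.range_domRestrict] at h
  have h2 : Module.finrank k (LinearMap.ker (q.domRestrict F)) =
      Module.finrank k (F ⊓ LinearMap.ker q : Submodule k V) := by
    have e : (LinearMap.ker (q.domRestrict F)).map F.subtype = (F ⊓ LinearMap.ker q : Submodule k V) := by
      ext x
      constructor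
      · rintro ⟨y, hy, rfl⟩
        exact ⟨y.2, hy⟩
      · rintro ⟨hx, hx'⟩
        exact ⟨⟨x, hx⟩, hx', rfl⟩
    rw [← e, finrank_map_of_injective _ F.subtype_injective]
  rw [h2] at h
  exact h

theorem finrank_le (q : V →ₗ[k] W) (F : Submodule k V) [Module.Finite k V] :
    Module.finrank k F ≤ Module.finrank k (LinearMap.ker q) + Module.finrank k (F.map q) := by
  have h := finrank_map_add q F
  have h2 : Module.finrank k (F ⊓ LinearMap.ker q : Submodule k V) ≤ Module.finrank k (LinearMap.ker q) :=
    Submodule.finrank_mono inf_le_right
  omega

theorem finrank_exact (i : U →ₗ[k] V) (q : V →ₗ[k] W) (hi : Function.Injective i) (hiq : Function.Exact i q)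
    (F : Submodule k V) [Module.Finite k V] :
    Module.finrank k F = Module.finrank k (F.comap i) + Module.finrank k (F.map q) := by
  have h := finrank_map_add q F
  have h2 : (F.comap i).map i = F ⊓ LinearMap.ker q := by
    rw [LinearMap.exact_iff.1 hiq, Submodule.map_comap_eq, inf_comm]
  rw [← h2, finrank_map_of_injective _ hi] at h
  omega

end K958.GpLin
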