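import Groth.Agent.ParSh.K958.GpBase
import Groth.Agent.ParSh.K958.GpLin
import Groth.Agent.Canon.K769.Basic

/-!
# The generalised parabolic degree on a smooth curve

`pd α E F₁ = deg E + α · dim F₁`: additivity, comparison along monomorphisms of equal rank.
-/

set_option autoImplicit false
universe u
open CategoryTheory CategoryTheory.Limits AlgebraicGeometry

namespace K958.GpDeg

open Groth.Agent Groth.Agent.CycB.StalkExact Groth.Agent.VarietyA.DegRank K707.Base K707.Deg K707.Slope K707.Semi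
open Groth.Agent.VarietyA.EulerLES K958.GpBase K958.GpLin ParSh

section Maps

variable (k : Type u) [Field k] {X : Scheme.{u}} [X.Over (Spec (CommRingCat.of k))] (I : X.IdealSheafData)

theorem fibDMap_comp {E F G : X.Modules} (f : E ⟶ F) (g : F ⟶ G) :
    fibDMap k X I (f ≫ g) = (fibDMap k X I g).comp (fibDMap k X I f) := by
  have h : resDMap I (f ≫ g) = resDMap I f ≫ resDMap I g := by
    rw [resDMap, resDMap, resDMap, ← KoszTw.tensorMap_comp, Category.comp_id]
  rw [fibDMap, h]
  exact K769.Basic.HHlin_comp k _ _ 0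

theorem fibDMap_id (E : X.Modules) : fibDMap k X I (𝟙 E) = LinearMap.id := by
  have h : resDMap I (𝟙 E) = 𝟙 _ := KoszTw.tensorMap_id _ _
  rw [fibDMap, h]
  exact K769.Basic.HHlin_id k _ 0

theorem exact_fibDMap {S : ShortComplex X.Modules} (hS : S.ShortExact) {n : ℕ}
    (h3 : FlatMod.IsFinLocFreeOfRank n S.X₃) :
    Function.Injective (fibDMap k X I S.f) ∧ Function.Exact (fibDMap k X I S.f) (fibDMap k X I S.g) := by
  have h := rD_shortExact I hS h3
  have h1 := injectiveA₀ k _ h
  have h2 := exactA₂ k _ h 0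
  rw [fibDMap_eq, fibDMap_eq]
  exact ⟨h1, h2⟩

theorem fibDMap_add {E F : X.Modules} (f g : E ⟶ F) :
    fibDMap k X I (f + g) = fibDMap k X I f + fibDMap k X I g := by
  have h : resDMap I (f + g) = resDMap I f + resDMap I g := by
    have e1 := (rD I).map_add (f := f) (g := g)
    rw [rD_map, rD_map, rD_map] at e1
    exact e1
  rw [fibDMap, h]
  apply LinearMap.ext
  intro x
  change Sheaf.H.map ((SheafOfModules.toSheaf X.ringCatSheaf).map (resDMap I f + resDMap I g)) 0 x =
    Sheaf.H.map ((SheafOfModules.toSheaf X.ringCatSheaf).map (resDMap I f)) 0 x +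
      Sheaf.H.map ((SheafOfModules.toSheaf X.ringCatSheaf).map (resDMap I g)) 0 x
  exact LinearMap.congr_fun (mapΓ_add (resDMap I f) (resDMap I g) 0) x

theorem fibDMap_zero (E F : X.Modules) : fibDMap k X I (0 : E ⟶ F) = 0 := by
  have h := fibDMap_add k I (0 : E ⟶ F) 0
  rw [add_zero] at h
  exact left_eq_add.1 h

include k in
theorem subsingleton_fibD {E : X.Modules} (hE : IsZero E) : Subsingleton (fibD X I E) := by
  have h1 : (𝟙 E : E ⟶ E) = 0 := hE.eq_of_src _ _
  have h2 := fibDMap_id k I E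
  rw [h1, fibDMap_zero] at h2
  refine ⟨fun a b => ?_⟩
  have h3 : ∀ a : fibD X I E, a = 0 := fun a => (LinearMap.congr_fun h2 a).symm
  rw [h3 a, h3 b]

theorem fibDMap_comp_apply {E F G : X.Modules} (f : E ⟶ F) (g : F ⟶ G) (x : fibD X I E) :
    fibDMap k X I (f ≫ g) x = fibDMap k X I g (fibDMap k X I f x) := by
  rw [fibDMap_comp]; rfl

theorem gpInduced_comp {E F G : X.Modules} (f : E ⟶ F) (g : F ⟶ G) (G₁ : Submodule k (fibD X I G)) :
    gpInduced k X I (f ≫ g) G₁ = gpInduced k X I f (gpInduced k X I g G₁) := by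
  unfold gpInduced
  rw [fibDMap_comp]
  exact Submodule.comap_comp _ _ _

/-- The generalised parabolic degree. -/
noncomputable def pd [IrreducibleSpace X] (α : ℝ) {E : X.Modules} {I : X.IdealSheafData}
    (F₁ : Submodule k (fibD X I E)) : ℝ :=
  (dg k E : ℝ) + α * (Module.finrank k F₁ : ℝ)

theorem gpDeg_eq [IrreducibleSpace X] (α : ℝ) {E : X.Modules} (F₁ : Submodule k (fibD X I E)) {n : ℕ}
    (hE : FlatMod.IsFinLocFreeOfRank n E) : gpDeg k X α E F₁ n = pd k α F₁ := by
  unfold gpDeg gpWt pd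
  rw [dg_of_rank k hE]

end Maps

section Curve

variable {k : Type u} [Field k] {X : Scheme.{u}} [X.Over (Spec (CommRingCat.of k))] [IsIntegral X]
  [IsProper (X ↘ Spec (CommRingCat.of k))] {I : X.IdealSheafData}

theorem pd_of_isZero {E : X.Modules} (hE : IsZero E) (α : ℝ) (F₁ : Submodule k (fibD X I E)) : pd k α F₁ = 0 := by
  have h1 := subsingleton_fibD k I hE
  have h2 : Module.finrank k F₁ = 0 := Module.finrank_zero_of_subsingleton
  unfold pd
  rw [h2, dg_of_isZero hE]
  simp

/-- The generalised parabolic degree is additive. -/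
theorem pd_add {S : ShortComplex X.Modules} (hS : S.ShortExact) (h1 : FlatMod.IsFinLocFree S.X₁)
    (h2 : FlatMod.IsFinLocFree S.X₂) (h3 : FlatMod.IsFinLocFree S.X₃) (α : ℝ) (F₁ : Submodule k (fibD X I S.X₂)) :
    pd k α F₁ = pd k α (gpInduced k X I S.f F₁) + pd k α (gpCoinduced k X I S.g F₁) := by
  obtain ⟨e1, e2⟩ := exact_fibDMap k I hS (isFinLocFreeOfRank_rk h3)
  have : Module.Finite k (fibD X I S.X₂) := finite_fibD k (isFinLocFreeOfRank_rk h2)
  have e3 := finrank_exact _ _ e1 e2 F₁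
  have e4 := dg_add k S hS (coh_of_vb h1) (coh_of_vb h2) (coh_of_vb h3)
  unfold pd gpInduced gpCoinduced
  rw [e3, e4]
  push_cast
  ring

/-- Comparison of the dimensions along a monomorphism of modules of the same rank. -/
theorem finrank_le_of_mono (C : Crv k X) (hD : FGA.IsEffCartier I) {E F : X.Modules} {n : ℕ}
    (hE : FlatMod.IsFinLocFreeOfRank n E) (hF : FlatMod.IsFinLocFreeOfRank n F) (f : E ⟶ F) [Mono f]
    {F₁ : Submodule k (fibD X I E)} {F₁' : Submodule k (fibD X I F)} (hf : IsGPHom k X I F₁ F₁' f) :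
    (Module.finrank k F₁ : ℤ) ≤ (dg k F - dg k E) + Module.finrank k F₁' := by
  have h1 := finrank_ker_fibDMap_le k C hD hE hF f
  have hfE : Module.Finite k (fibD X I E) := finite_fibD k hE
  have hfF : Module.Finite k (fibD X I F) := finite_fibD k hF
  have h2 := finrank_le (fibDMap k X I f) F₁
  have h3 : Module.finrank k (F₁.map (fibDMap k X I f)) ≤ Module.finrank k F₁' := Submodule.finrank_mono hf
  have h4 : (Module.finrank k F₁ : ℤ) ≤ Module.finrank k (LinearMap.ker (fibDMap k X I f)) +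
      Module.finrank k (F₁.map (fibDMap k X I f)) := by exact_mod_cast h2
  have h5 : (Module.finrank k (F₁.map (fibDMap k X I f)) : ℤ) ≤ Module.finrank k F₁' := by exact_mod_cast h3
  linarith

theorem dg_le (C : Crv k X) {E F : X.Modules} {n : ℕ}
    (hE : FlatMod.IsFinLocFreeOfRank n E) (hF : FlatMod.IsFinLocFreeOfRank n F) (f : E ⟶ F) [Mono f] :
    dg k E ≤ dg k F :=
  dg_le_of_mono C f (isCoh_of_rank hE) (isCoh_of_rank hF) (by rw [rk_of_rank hE, rk_of_rank hF])

theorem pd_le_of_mono (C : Crv k X) (hD : FGA.IsEffCartier I) {E F : X.Modules} {n : ℕ}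
    (hE : FlatMod.IsFinLocFreeOfRank n E) (hF : FlatMod.IsFinLocFreeOfRank n F) (f : E ⟶ F) [Mono f]
    {F₁ : Submodule k (fibD X I E)} {F₁' : Submodule k (fibD X I F)} (hf : IsGPHom k X I F₁ F₁' f)
    {α : ℝ} (h0 : 0 ≤ α) (h1 : α ≤ 1) : pd k α F₁ ≤ pd k α F₁' := by
  have h2 := finrank_le_of_mono C hD hE hF f hf
  have h3 := dg_le C hE hF f
  have h2' : (Module.finrank k F₁ : ℝ) ≤ ((dg k F : ℝ) - dg k E) + Module.finrank k F₁' := by exact_mod_cast h2
  have h3' : (dg k E : ℝ) ≤ dg k F := by exact_mod_cast h3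
  unfold pd
  nlinarith [mul_le_mul_of_nonneg_left h2' h0]

theorem isIso_of_pd_eq (C : Crv k X) (hD : FGA.IsEffCartier I) {E F : X.Modules} {n : ℕ}
    (hE : FlatMod.IsFinLocFreeOfRank n E) (hF : FlatMod.IsFinLocFreeOfRank n F) (f : E ⟶ F) [Mono f]
    {F₁ : Submodule k (fibD X I E)} {F₁' : Submodule k (fibD X I F)} (hf : IsGPHom k X I F₁ F₁' f)
    {α : ℝ} (h0 : 0 ≤ α) (h1 : α < 1) (h : pd k α F₁' ≤ pd k α F₁) :
    IsIso f ∧ (0 < α → F₁.map (fibDMap k X I f) = F₁') := by
  have h2 := finrank_le_of_mono C hD hE hF f hf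
  have h3 := dg_le C hE hF f
  have h2' : (Module.finrank k F₁ : ℝ) ≤ ((dg k F : ℝ) - dg k E) + Module.finrank k F₁' := by exact_mod_cast h2
  have h3' : (dg k E : ℝ) ≤ dg k F := by exact_mod_cast h3
  unfold pd at h
  have h4 : (dg k F : ℝ) ≤ dg k E := by
    by_contra hcon
    push Not at hcon
    nlinarith [mul_le_mul_of_nonneg_left h2' h0]
  have h4' : dg k F ≤ dg k E := by exact_mod_cast h4
  have hiso : IsIso f := isIso_of_mono C f (isCoh_of_rank hE) (isCoh_of_rank hF)
    (by rw [rk_of_rank hE, rk_of_rank hF]) h4'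
  refine ⟨hiso, fun hα => ?_⟩
  have hfF : Module.Finite k (fibD X I F) := finite_fibD k hF
  have hinj : Function.Injective (fibDMap k X I f) := by
    intro a b hab
    have e1 := fibDMap_comp_apply k I f (inv f) a
    have e2 := fibDMap_comp_apply k I f (inv f) b
    rw [IsIso.hom_inv_id, fibDMap_id] at e1 e2
    change a = _ at e1
    change b = _ at e2
    rw [e1, e2, hab]
  refine Submodule.eq_of_le_of_finrank_le hf ?_
  rw [finrank_map_of_injective _ hinj]
  have h5 : α * (Module.finrank k F₁' : ℝ) ≤ α * (Module.finrank k F₁ : ℝ) := by linarith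
  have h6 := le_of_mul_le_mul_left h5 hα
  exact_mod_cast h6

/-- An isomorphism of modules carrying `F₁` onto `F₁'` preserves the degree; at weight `0` the subspaces do not matter. -/
theorem pd_eq_of_isIso {E F : X.Modules} (f : E ⟶ F) [IsIso f]
    {F₁ : Submodule k (fibD X I E)} {F₁' : Submodule k (fibD X I F)} {α : ℝ} (h0 : 0 ≤ α)
    (h : 0 < α → F₁.map (fibDMap k X I f) = F₁') : pd k α F₁ = pd k α F₁' := by
  unfold pd
  rw [dg_iso k (asIso f)]
  rcases h0.eq_or_lt with h1 | h1
  · rw [← h1]; simp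
  · rw [← h h1]
    have hinj : Function.Injective (fibDMap k X I f) := by
      intro a b hab
      have e1 := fibDMap_comp_apply k I f (inv f) a
      have e2 := fibDMap_comp_apply k I f (inv f) b
      rw [IsIso.hom_inv_id, fibDMap_id] at e1 e2
      change a = _ at e1
      change b = _ at e2
      rw [e1, e2, hab]
    rw [finrank_map_of_injective _ hinj]

/-- Semistability in terms of `pd` and the generic rank (including the zero submodule). -/
theorem ss_le (C : Crv k X) {E : X.Modules} {n : ℕ} (hE : FlatMod.IsFinLocFreeOfRank n E) {α : ℝ}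
    {F₁ : Submodule k (fibD X I E)} (hss : IsGPSemistable k X I α F₁ n) {G : X.Modules} (i : G ⟶ E) [Mono i]
    (hG : FlatMod.IsFinLocFree G) : pd k α (gpInduced k X I i F₁) * (n : ℝ) ≤ pd k α F₁ * (rk G : ℝ) := by
  have hG' := isFinLocFreeOfRank_rk hG
  rcases Nat.eq_zero_or_pos (rk G) with h0 | h0
  · rw [pd_of_isZero (isZero_of_rk_eq_zero C hG h0), h0]
    simp
  · have h := hss G (rk G) i inferInstance h0 hG'
    rw [gpDeg_eq k I α _ hG', gpDeg_eq k I α _ hE] at h
    exact h

theorem st_lt {E : X.Modules} {n : ℕ} (hE : FlatMod.IsFinLocFreeOfRank n E) {α : ℝ}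
    {F₁ : Submodule k (fibD X I E)} (hst : IsGPStable k X I α F₁ n) {G : X.Modules} (i : G ⟶ E) [Mono i]
    (hG : FlatMod.IsFinLocFree G) (h0 : 0 < rk G) (h1 : rk G < n) :
    pd k α (gpInduced k X I i F₁) * (n : ℝ) < pd k α F₁ * (rk G : ℝ) := by
  have hG' := isFinLocFreeOfRank_rk hG
  have h := hst G (rk G) i inferInstance h0 h1 hG'
  rw [gpDeg_eq k I α _ hG', gpDeg_eq k I α _ hE] at h
  exact h

end Curve

end K958.GpDeg
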