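import Groth.Agent.ParSh.K958.GpHom
import Groth.Agent.Ega3B.TensorAUnit
import Groth.Agent.VBCurve.K703.EndLocal
import Groth.Agent.VBCurve.K703.HomFin
import Groth.Agent.VBCurve.K703.Scalar
import Groth.Agent.VBCurve.K703.Basic

/-!
# Stable generalised parabolic bundles are simple
-/

set_option autoImplicit false
universe u
open CategoryTheory CategoryTheory.Limits AlgebraicGeometry

namespace K958.GpEnd

open Groth.Agent Groth.Agent.VarietyA.DegRank K707.Base K707.Deg K707.Slope K707.Semi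
open K958.GpBase K958.GpLin K958.GpDeg K958.GpOne K958.GpHom ParSh

variable {k : Type u} [Field k] {X : Scheme.{u}} [X.Over (Spec (CommRingCat.of k))] {I : X.IdealSheafData}

theorem resDMap_smul (E : X.Modules) (c : k) : resDMap I (c • 𝟙 E) = Formal.smulMod k (resD I E) c := by
  have h := Ega3B.TensorAUnit.tensorRightMod_map_smul (A := k) (ClSub.quotMod I) E c
  rw [KoszTw.tensorRightMod_map] at h
  rw [KLin.smul_id]
  exact h

theorem HHlin_smul (M : X.Modules) (c : k) (x : Coh.HH X M 0) :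
    Canon.HHlin k (Formal.smulMod k M c) 0 x = c • x := rfl

theorem fibDMap_smul (E : X.Modules) (c : k) (x : fibD X I E) : fibDMap k X I (c • 𝟙 E) x = c • x := by
  rw [fibDMap, resDMap_smul]
  exact HHlin_smul _ c x

theorem isGPHom_sub {E : X.Modules} {F₁ : Submodule k (fibD X I E)} {f : E ⟶ E} (hf : IsGPHom k X I F₁ F₁ f) (c : k) :
    IsGPHom k X I F₁ F₁ (f - c • 𝟙 E) := by
  unfold IsGPHom at hf ⊢
  rw [Submodule.map_le_iff_le_comap] at hf ⊢
  intro x hx
  have h1 := hf hx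
  rw [Submodule.mem_comap] at h1 ⊢
  have h2 : fibDMap k X I f = fibDMap k X I (f - c • 𝟙 E) + fibDMap k X I (c • 𝟙 E) := by
    rw [← fibDMap_add, sub_add_cancel]
  have h3 : fibDMap k X I f x = fibDMap k X I (f - c • 𝟙 E) x + c • x := by
    rw [h2, LinearMap.add_apply, fibDMap_smul]
  have h4 : fibDMap k X I (f - c • 𝟙 E) x = fibDMap k X I f x - c • x := by
    rw [h3, add_sub_cancel_right]
  rw [h4]
  exact F₁.sub_mem h1 (F₁.smul_mem c hx)

variable [IsIntegral X] [IsProper (X ↘ Spec (CommRingCat.of k))]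

theorem simple [IsAlgClosed k] (C : Crv k X) (hD : FGA.IsEffCartier I) {α : ℝ} (h0 : 0 ≤ α) (h1 : α < 1)
    {E : X.Modules} {n : ℕ} (hn : 0 < n) (hE : FlatMod.IsFinLocFreeOfRank n E)
    {F₁ : Submodule k (fibD X I E)} (hss : IsGPSemistable k X I α F₁ n) (hst : IsGPStable k X I α F₁ n)
    (f : E ⟶ E) (hf : IsGPHom k X I F₁ F₁ f) :
    ∃ c : k, (SheafOfModules.toSheaf X.ringCatSheaf).map f =
      Coh.smulAb E (Coh.toGlobal (X ↘ Spec (CommRingCat.of k)) c) := by
  have hfin : Module.Finite k (E ⟶ E) :=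
    K703.HomFin.finite_hom k E E (K703.Basic.isCoh_of_rank hE) (K703.Basic.isCoh_of_rank hE)
  obtain ⟨c, hc⟩ := K703.EndLocal.exists_not_isIso_sub (k := k) (K703.Basic.not_isZero_of_rank hn hE) f
  refine ⟨c, K703.Scalar.smulAb_eq_iff.2 ?_⟩
  rcases zero_or_iso C hD h0 h1 hn hn hE hE hss hss hst hst rfl (f - c • 𝟙 E) (isGPHom_sub hf c) with h | h
  · exact sub_eq_zero.1 h
  · exact absurd h.1 hc

end K958.GpEnd
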