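import Groth.Agent.ParSh.K958.GpOne

/-!
# Homomorphisms between semistable generalised parabolic bundles of the same slope
-/

set_option autoImplicit false
universe u
open CategoryTheory CategoryTheory.Limits AlgebraicGeometry

namespace K958.GpHom

open Groth.Agent Groth.Agent.VarietyA.DegRank K707.Base K707.Deg K707.Slope K707.Semi
open K958.GpBase K958.GpLin K958.GpDeg K958.GpOne ParSh

variable {k : Type u} [Field k] {X : Scheme.{u}} [X.Over (Spec (CommRingCat.of k))] [IsIntegral X]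
  [IsProper (X ↘ Spec (CommRingCat.of k))] {I : X.IdealSheafData}

theorem arith {x v y e φ κ ρ n m : ℝ} (hn : n = κ + ρ) (hnp : 0 < n) (hm : 0 < m) (h1 : e = x + v)
    (h2 : x * n ≤ e * κ) (h3 : v ≤ y) (h4 : y * m ≤ φ * ρ) (h5 : e * m = φ * n) :
    x * n = e * κ ∧ y ≤ v ∧ y * m = φ * ρ := by
  have a1 : e * ρ ≤ v * n := by
    have : v * n = e * n - x * n := by rw [h1]; ring
    have : e * n = e * κ + e * ρ := by rw [hn]; ring
    linarith
  have a2 : y * n * m ≤ e * ρ * m := by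
    have b1 : y * n * m = (y * m) * n := by ring
    have b2 : e * ρ * m = (φ * ρ) * n := by
      have : e * ρ * m = (e * m) * ρ := by ring
      rw [this, h5]; ring
    rw [b1, b2]
    exact mul_le_mul_of_nonneg_right h4 hnp.le
  have a3 : y * n ≤ e * ρ := le_of_mul_le_mul_right a2 hm
  have a4 : v * n ≤ y * n := mul_le_mul_of_nonneg_right h3 hnp.le
  have a5 : y * n ≤ v * n := a3.trans a1
  refine ⟨?_, le_of_mul_le_mul_right a5 hnp, ?_⟩
  · have : v * n = e * n - x * n := by rw [h1]; ring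
    have : e * n = e * κ + e * ρ := by rw [hn]; ring
    linarith
  · refine le_antisymm h4 ?_
    have c1 : e * ρ ≤ y * n := a1.trans a4
    have c2 : φ * ρ * n ≤ y * m * n := by
      have d1 : φ * ρ * n = (e * ρ) * m := by
        have : φ * ρ * n = (φ * n) * ρ := by ring
        rw [this, ← h5]; ring
      have d2 : y * m * n = (y * n) * m := by ring
      rw [d1, d2]
      exact mul_le_mul_of_nonneg_right c1 hm.le
    exact le_of_mul_le_mul_right c2 hnp

theorem shortExact_of_factor {E V F : X.Modules} (f : E ⟶ F) (p : E ⟶ V) (i : V ⟶ F) [Epi p] [Mono i] (h : p ≫ i = f) :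
    ∃ w : kernel.ι f ≫ p = 0, (ShortComplex.mk (kernel.ι f) p w).ShortExact := by
  have w : kernel.ι f ≫ p = 0 := by
    rw [← cancel_mono i, Category.assoc, h, kernel.condition, zero_comp]
  refine ⟨w, ?_⟩
  have hk : IsLimit (KernelFork.ofι (kernel.ι f) w) := by
    refine KernelFork.IsLimit.ofι' _ _ fun {A} g hg => ?_
    refine ⟨kernel.lift f g ?_, kernel.lift_ι _ _ _⟩
    rw [← h, ← Category.assoc, hg, zero_comp]
  exact { exact := ShortComplex.exact_of_f_is_kernel _ hk }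

theorem hom_core (C : Crv k X) (hD : FGA.IsEffCartier I) {α : ℝ} (h0 : 0 ≤ α) (h1 : α < 1) {E F : X.Modules} {n m : ℕ}
    (hn : 0 < n) (hm : 0 < m)
    (hE : FlatMod.IsFinLocFreeOfRank n E) (hF : FlatMod.IsFinLocFreeOfRank m F)
    {F₁ : Submodule k (fibD X I E)} {F₁' : Submodule k (fibD X I F)}
    (hEss : IsGPSemistable k X I α F₁ n) (hFss : IsGPSemistable k X I α F₁' m)
    (hμ : pd k α F₁ * (m : ℝ) = pd k α F₁' * (n : ℝ))
    (f : E ⟶ F) (hf : IsGPHom k X I F₁ F₁' f) (hf0 : f ≠ 0) :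
    ∃ (V J Q : X.Modules) (p : E ⟶ V) (a : V ⟶ J) (j : J ⟶ F) (q : F ⟶ Q) (w : j ≫ q = 0),
      Epi p ∧ IsIso a ∧ Mono j ∧ p ≫ a ≫ j = f ∧ (ShortComplex.mk j q w).ShortExact ∧
      FlatMod.IsFinLocFree J ∧ FlatMod.IsFinLocFree Q ∧ 0 < rk J ∧ n = rk (kernel f) + rk J ∧
      pd k α (gpInduced k X I (kernel.ι f) F₁) * (n : ℝ) = pd k α F₁ * (rk (kernel f) : ℝ) ∧
      pd k α (gpInduced k X I j F₁') * (m : ℝ) = pd k α F₁' * (rk J : ℝ) := by
  have hEv := isFinLocFree_of_rank hE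
  have hFv := isFinLocFree_of_rank hF
  obtain ⟨V, p, i, hp, hi, hpi, hV, hpos, e1, e2, e3, e4⟩ := exists_factor_pos C f hf0 (coh_of_vb hEv) hFv
  obtain ⟨J, Q, a, j, q, w, ha, haj, hS, hJ, hQ, g1, g2, g3, g4⟩ := exists_saturation C i (coh_of_vb hV) (coh_of_vb hFv)
  have hj : Mono j := hS.mono_f
  have hJv := vb_of_mono C j hJ hFv
  have hKv := vb_kernel C f hEv (coh_of_vb hFv)
  obtain ⟨w', hS'⟩ := shortExact_of_factor f p i hpi
  have hadd := pd_add hS' hKv hEv hV α F₁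
  -- the comparison `V → J`
  have hhom : IsGPHom k X I (gpCoinduced k X I p F₁) (gpInduced k X I j F₁') a := by
    unfold IsGPHom gpCoinduced gpInduced
    rw [Submodule.map_le_iff_le_comap, Submodule.map_le_iff_le_comap]
    intro x hx
    rw [Submodule.mem_comap, Submodule.mem_comap, Submodule.mem_comap]
    have h2 := hf (Submodule.mem_map_of_mem hx)
    rw [← hpi, ← haj, fibDMap_comp_apply, fibDMap_comp_apply] at h2
    exact h2
  have hVr : FlatMod.IsFinLocFreeOfRank (rk V) V := isFinLocFreeOfRank_rk hV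
  have hJr : FlatMod.IsFinLocFreeOfRank (rk V) J := by rw [← g1]; exact isFinLocFreeOfRank_rk hJv
  have hle := pd_le_of_mono C hD hVr hJr a hhom h0 h1.le
  have s1 := ss_le C hE hEss (kernel.ι f) hKv
  have s2 := ss_le C hF hFss j hJv
  rw [rk_of_rank hE] at e1
  have hn' : (n : ℝ) = (rk (kernel f) : ℝ) + (rk J : ℝ) := by
    rw [g1]; exact_mod_cast e1
  obtain ⟨r1, r2, r3⟩ := arith hn' (by exact_mod_cast hn) (by exact_mod_cast hm) hadd s1 hle s2 hμ
  obtain ⟨hiso, -⟩ := isIso_of_pd_eq C hD hVr hJr a hhom h0 h1 r2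
  refine ⟨V, J, Q, p, a, j, q, w, hp, hiso, hj, ?_, hS, hJv, hQ, ?_, ?_, r1, r3⟩
  · rw [haj, hpi]
  · rw [g1]; exact hpos
  · rw [g1]; exact e1

/-- The cokernel of a homomorphism between semistable objects of the same slope is locally free. -/
theorem cokernel_vb (C : Crv k X) (hD : FGA.IsEffCartier I) {α : ℝ} (h0 : 0 ≤ α) (h1 : α < 1) {E F : X.Modules} {n m : ℕ}
    (hn : 0 < n) (hm : 0 < m)
    (hE : FlatMod.IsFinLocFreeOfRank n E) (hF : FlatMod.IsFinLocFreeOfRank m F)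
    {F₁ : Submodule k (fibD X I E)} {F₁' : Submodule k (fibD X I F)}
    (hEss : IsGPSemistable k X I α F₁ n) (hFss : IsGPSemistable k X I α F₁' m)
    (hμ : pd k α F₁ * (m : ℝ) = pd k α F₁' * (n : ℝ))
    (f : E ⟶ F) (hf : IsGPHom k X I F₁ F₁' f) :
    ∃ r₀ : ℕ, FlatMod.IsFinLocFreeOfRank r₀ (cokernel f) := by
  by_cases hf0 : f = 0
  · subst hf0
    exact ⟨m, rank_iso cokernelZeroIsoTarget.symm hF⟩
  · obtain ⟨V, J, Q, p, a, j, q, w, hp, ha, hj, hfac, hS, hJ, hQ, -, -, -, -⟩ :=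
      hom_core C hD h0 h1 hn hm hE hF hEss hFss hμ f hf hf0
    refine ⟨rk Q, rank_iso ?_ (isFinLocFreeOfRank_rk hQ)⟩
    have e1 : cokernel j ≅ Q := IsColimit.coconePointUniqueUpToIso (cokernelIsCokernel _) hS.gIsCokernel
    have e2 : cokernel (p ≫ a ≫ j) ≅ cokernel j := cokernelEpiComp p (a ≫ j) ≪≫ cokernelEpiComp a j
    exact e1.symm ≪≫ e2.symm ≪≫ cokernelIsoOfEq hfac

/-- Homomorphisms between stable objects of the same slope. -/
theorem zero_or_iso (C : Crv k X) (hD : FGA.IsEffCartier I) {α : ℝ} (h0 : 0 ≤ α) (h1 : α < 1) {E F : X.Modules} {n m : ℕ}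
    (hn : 0 < n) (hm : 0 < m)
    (hE : FlatMod.IsFinLocFreeOfRank n E) (hF : FlatMod.IsFinLocFreeOfRank m F)
    {F₁ : Submodule k (fibD X I E)} {F₁' : Submodule k (fibD X I F)}
    (hEss : IsGPSemistable k X I α F₁ n) (hFss : IsGPSemistable k X I α F₁' m)
    (hEst : IsGPStable k X I α F₁ n) (hFst : IsGPStable k X I α F₁' m)
    (hμ : pd k α F₁ * (m : ℝ) = pd k α F₁' * (n : ℝ))
    (f : E ⟶ F) (hf : IsGPHom k X I F₁ F₁' f) :
    f = 0 ∨ (IsIso f ∧ (0 < α → F₁.map (fibDMap k X I f) = F₁')) := by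
  by_cases hf0 : f = 0
  · exact Or.inl hf0
  right
  have hEv := isFinLocFree_of_rank hE
  have hFv := isFinLocFree_of_rank hF
  obtain ⟨V, J, Q, p, a, j, q, w, hp, ha, hj, hfac, hS, hJ, hQ, hpos, hnr, r1, r2⟩ :=
    hom_core C hD h0 h1 hn hm hE hF hEss hFss hμ f hf hf0
  have hKv := vb_kernel C f hEv (coh_of_vb hFv)
  have hK : rk (kernel f) = 0 := by
    by_contra h
    exact absurd r1 (st_lt hE hEst (kernel.ι f) hKv (Nat.pos_of_ne_zero h) (by omega)).ne
  have hKz := isZero_of_rk_eq_zero C hKv hK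
  have hmono : Mono f := Preadditive.mono_of_kernel_zero (hKz.eq_of_src _ _)
  have hJm : rk J ≤ m := by
    have := rk_le_of_mono C j (coh_of_vb hJ) (coh_of_vb hFv)
    rwa [rk_of_rank hF] at this
  have hJm' : rk J = m := by
    by_contra h
    exact absurd r2 (st_lt hF hFst j hJ hpos (lt_of_le_of_ne hJm h)).ne
  have hnm : n = m := by omega
  subst hnm
  have hn' : (0 : ℝ) < n := by exact_mod_cast hn
  have heq : pd k α F₁ = pd k α F₁' := mul_right_cancel₀ hn'.ne' hμ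
  exact isIso_of_pd_eq C hD hE hF f hf h0 h1 heq.ge

end K958.GpHom
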