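import Groth.Agent.ParSh.K958.GpDeg

/-!
# Weights close to one
-/

set_option autoImplicit false
universe u
open CategoryTheory CategoryTheory.Limits AlgebraicGeometry

namespace K958.GpOne

open Groth.Agent Groth.Agent.VarietyA.DegRank K707.Base K707.Deg K707.Slope K707.Semi
open K958.GpBase K958.GpLin K958.GpDeg ParSh

variable {k : Type u} [Field k] {X : Scheme.{u}} [X.Over (Spec (CommRingCat.of k))] [IsIntegral X]
  [IsProper (X ↘ Spec (CommRingCat.of k))] {I : X.IdealSheafData}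

theorem isGPHom_induced {E F : X.Modules} (f : E ⟶ F) (F₁ : Submodule k (fibD X I F)) :
    IsGPHom k X I (gpInduced k X I f F₁) F₁ f := Submodule.map_comap_le _ _

theorem rank_le (C : Crv k X) {E G : X.Modules} {n r : ℕ} (hE : FlatMod.IsFinLocFreeOfRank n E)
    (hG : FlatMod.IsFinLocFreeOfRank r G) (i : G ⟶ E) [Mono i] : r ≤ n := by
  have h := rk_le_of_mono C i (isCoh_of_rank hG) (isCoh_of_rank hE)
  rwa [rk_of_rank hE, rk_of_rank hG] at h

/-- Submodules of full rank never destabilise. -/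
theorem full_rank (C : Crv k X) (hD : FGA.IsEffCartier I) {E G : X.Modules} {n : ℕ}
    (hE : FlatMod.IsFinLocFreeOfRank n E) (hG : FlatMod.IsFinLocFreeOfRank n G) (i : G ⟶ E) [Mono i]
    (F₁ : Submodule k (fibD X I E)) {α : ℝ} (h0 : 0 ≤ α) (h1 : α ≤ 1) :
    gpDeg k X α G (gpInduced k X I i F₁) n * (n : ℝ) ≤ gpDeg k X α E F₁ n * (n : ℝ) := by
  rw [gpDeg_eq k I α _ hE, gpDeg_eq k I α _ hG]
  exact mul_le_mul_of_nonneg_right (pd_le_of_mono C hD hG hE i (isGPHom_induced i F₁) h0 h1) (by positivity)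

theorem ss_of_st (C : Crv k X) (hD : FGA.IsEffCartier I) {E : X.Modules} {n : ℕ}
    (hE : FlatMod.IsFinLocFreeOfRank n E) (F₁ : Submodule k (fibD X I E)) {α : ℝ} (h0 : 0 ≤ α) (h1 : α ≤ 1)
    (hst : IsGPStable k X I α F₁ n) : IsGPSemistable k X I α F₁ n := by
  intro G r i hi hr hG
  rcases (rank_le C hE hG i).lt_or_eq with h | h
  · exact (hst G r i hi hr h hG).le
  · subst h
    exact full_rank C hD hE hG i F₁ h0 h1

/-- The arithmetic of `α` close to `1`. -/
theorem alpha_bound {d n : ℕ} (hd : 0 < d) (hn : 2 ≤ n) {α : ℝ}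
    (hα : 1 - 1 / ((d : ℝ) * (n : ℝ) * ((n : ℝ) - 1)) < α) : (1 - α) * ((d : ℝ) * n * ((n : ℝ) - 1)) < 1 := by
  have hn' : (2 : ℝ) ≤ n := by exact_mod_cast hn
  have hd' : (0 : ℝ) < d := by exact_mod_cast hd
  have hpos : 0 < (d : ℝ) * n * ((n : ℝ) - 1) := by
    have : (0 : ℝ) < (n : ℝ) - 1 := by linarith
    positivity
  have h1 : 1 - α < 1 / ((d : ℝ) * (n : ℝ) * ((n : ℝ) - 1)) := by linarith
  rwa [lt_div_iff₀ hpos] at h1

theorem small {d n r x : ℕ} (hd : 0 < d) (hn : 2 ≤ n) {α : ℝ} (hα1 : α < 1)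
    (hα : 1 - 1 / ((d : ℝ) * (n : ℝ) * ((n : ℝ) - 1)) < α) (hr : r < n) (hx : x ≤ n * (r * d)) :
    (1 - α) * (x : ℝ) < 1 := by
  have h1 := alpha_bound hd hn hα
  have hr' : (r : ℝ) ≤ n - 1 := by
    have : r + 1 ≤ n := hr
    have : (r : ℝ) + 1 ≤ n := by exact_mod_cast this
    linarith
  have hx' : (x : ℝ) ≤ n * (r * d) := by exact_mod_cast hx
  have h2 : (x : ℝ) ≤ (d : ℝ) * n * ((n : ℝ) - 1) := by
    refine hx'.trans ?_
    have h3 : (n : ℝ) * (r * d) = (d : ℝ) * n * r := by ring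
    rw [h3]
    exact mul_le_mul_of_nonneg_left hr' (by positivity)
  have h4 : (1 - α) * (x : ℝ) ≤ (1 - α) * ((d : ℝ) * n * ((n : ℝ) - 1)) :=
    mul_le_mul_of_nonneg_left h2 (by linarith)
  linarith

/-- `α`-semistable implies `1`-semistable. -/
theorem one_ss (C : Crv k X) (hD : FGA.IsEffCartier I) {d : ℕ} (hd : 0 < d)
    (hdegD : ∀ (G : X.Modules) (r : ℕ), FlatMod.IsFinLocFreeOfRank r G → Module.finrank k (fibD X I G) = r * d)
    {E : X.Modules} {n : ℕ} (hn : 2 ≤ n) (hE : FlatMod.IsFinLocFreeOfRank n E) (F₁ : Submodule k (fibD X I E))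
    {α : ℝ} (hα1 : α < 1) (hα : 1 - 1 / ((d : ℝ) * (n : ℝ) * ((n : ℝ) - 1)) < α)
    (hss : IsGPSemistable k X I α F₁ n) : IsGPSemistable k X I 1 F₁ n := by
  intro G r i hi hr hG
  rcases (rank_le C hE hG i).lt_or_eq with hrn | hrn
  · have h := hss G r i hi hr hG
    rw [gpDeg_eq k I _ _ hE, gpDeg_eq k I _ _ hG] at h ⊢
    have hfin : Module.Finite k (fibD X I G) := finite_fibD k hG
    have hg : Module.finrank k (gpInduced k X I i F₁) ≤ r * d := by
      rw [← hdegD G r hG]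
      exact Submodule.finrank_le _
    unfold pd at h ⊢
    generalize Module.finrank k (gpInduced k X I i F₁) = g at h hg ⊢
    generalize Module.finrank k F₁ = e at h ⊢
    generalize dg k G = dG at h ⊢
    generalize dg k E = dE at h ⊢
    have hs := small hd hn hα1 hα hrn (x := n * g) (Nat.mul_le_mul_left n hg)
    by_contra hcon
    push Not at hcon
    have h2 : dE * r + e * r < dG * n + g * n := by
      have : ((dE * r + e * r : ℤ) : ℝ) < ((dG * n + g * n : ℤ) : ℝ) := by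
        push_cast
        linarith
      exact_mod_cast this
    have h3 : ((dE * r + e * r : ℤ) : ℝ) + 1 ≤ ((dG * n + g * n : ℤ) : ℝ) := by exact_mod_cast h2
    push_cast at h3 hs
    have h4 : 0 ≤ (1 - α) * ((e : ℝ) * r) := mul_nonneg (by linarith) (by positivity)
    nlinarith
  · subst hrn
    exact full_rank C hD hE hG i F₁ zero_le_one le_rfl

/-- `1`-stable implies `α`-stable. -/
theorem st_of_one (d : ℕ) (hd : 0 < d)
    (hdegD : ∀ (G : X.Modules) (r : ℕ), FlatMod.IsFinLocFreeOfRank r G → Module.finrank k (fibD X I G) = r * d)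
    {E : X.Modules} {n : ℕ} (hn : 2 ≤ n) (hE : FlatMod.IsFinLocFreeOfRank n E) (F₁ : Submodule k (fibD X I E))
    {α : ℝ} (hα1 : α < 1) (hα : 1 - 1 / ((d : ℝ) * (n : ℝ) * ((n : ℝ) - 1)) < α)
    (hst : IsGPStable k X I 1 F₁ n) : IsGPStable k X I α F₁ n := by
  intro G r i hi hr hrn hG
  have h := hst G r i hi hr hrn hG
  rw [gpDeg_eq k I _ _ hE, gpDeg_eq k I _ _ hG] at h ⊢
  have hfin : Module.Finite k (fibD X I E) := finite_fibD k hE
  have he : Module.finrank k F₁ ≤ n * d := by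
    rw [← hdegD E n hE]
    exact Submodule.finrank_le _
  unfold pd at h ⊢
  generalize Module.finrank k (gpInduced k X I i F₁) = g at h ⊢
  generalize Module.finrank k F₁ = e at h he ⊢
  generalize dg k G = dG at h ⊢
  generalize dg k E = dE at h ⊢
  have hs := small hd hn hα1 hα hrn (x := e * r) (by
    calc e * r ≤ n * d * r := Nat.mul_le_mul_right r he
      _ = n * (r * d) := by ring)
  have h2 : dG * n + g * n < dE * r + e * r := by
    have : ((dG * n + g * n : ℤ) : ℝ) < ((dE * r + e * r : ℤ) : ℝ) := by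
      push_cast
      linarith
    exact_mod_cast this
  have h3 : ((dG * n + g * n : ℤ) : ℝ) + 1 ≤ ((dE * r + e * r : ℤ) : ℝ) := by exact_mod_cast h2
  push_cast at h3 hs
  have h4 : 0 ≤ (1 - α) * ((g : ℝ) * n) := mul_nonneg (by linarith) (by positivity)
  nlinarith

/-- Coprimality: `1`-semistable implies `1`-stable. -/
theorem one_st {E : X.Modules} {n : ℕ} (hE : FlatMod.IsFinLocFreeOfRank n E) (F₁ : Submodule k (fibD X I E))
    (hcop : IsCoprime (n : ℤ) (Curv2.deg k X E n)) (a : ℕ) (ha : Module.finrank k F₁ = a * n)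
    (hss : IsGPSemistable k X I 1 F₁ n) : IsGPStable k X I 1 F₁ n := by
  intro G r i hi hr hrn hG
  have h := hss G r i hi hr hG
  refine lt_of_le_of_ne h fun heq => ?_
  rw [gpDeg_eq k I _ _ hE, gpDeg_eq k I _ _ hG] at heq
  unfold pd at heq
  rw [ha, one_mul, one_mul, dg_of_rank k hE] at heq
  generalize Module.finrank k (gpInduced k X I i F₁) = g at heq
  generalize dg k G = dG at heq
  generalize Curv2.deg k X E n = dE at heq hcop
  have h2 : (dG + g) * n = (dE + a * n) * r := by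
    have : (((dG + g) * n : ℤ) : ℝ) = (((dE + a * n) * r : ℤ) : ℝ) := by
      push_cast
      push_cast at heq
      exact heq
    exact_mod_cast this
  have h3 : (n : ℤ) ∣ dE * r := by
    refine ⟨dG + g - a * r, ?_⟩
    linarith
  have h4 : (n : ℤ) ∣ r := hcop.dvd_of_dvd_mul_left h3
  have h5 : n ∣ r := by exact_mod_cast h4
  exact absurd (Nat.le_of_dvd hr h5) (not_le.2 hrn)

end K958.GpOne
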