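import Groth.Agent.ParSh.K958.SatCmp
import Groth.Agent.ShStab.K847.StabBasic

/-!
# Comparison of parabolic Hilbert polynomials
-/

set_option autoImplicit false
universe v u
open CategoryTheory CategoryTheory.Limits AlgebraicGeometry

namespace K958.HomA

open Groth.Agent K958.Abel K958.StrX K958.StrCoh W4swparbununimod

section Weights

theorem len_eq {l l' : ℕ} {w : Fin (l + 1) → ℝ} {w' : Fin (l' + 1) → ℝ} (hw : StrictMono w) (hw' : StrictMono w')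
    (h : Set.range w' = Set.range w) : l' = l := by
  have h1 : Nat.card (Set.range w) = l + 1 := by
    rw [← Nat.card_congr (Equiv.ofInjective w hw.injective), Nat.card_eq_fintype_card, Fintype.card_fin]
  have h2 : Nat.card (Set.range w') = l' + 1 := by
    rw [← Nat.card_congr (Equiv.ofInjective w' hw'.injective), Nat.card_eq_fintype_card, Fintype.card_fin]
  rw [h, h1] at h2
  omega

variable {C : Type u} [Category.{v} C]

/-- Induction over two structures with the same set of weights. -/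
theorem same_weights {V W : C} {motive : ParSh.Str V → ParSh.Str W → Prop}
    (H : ∀ (𝓐 : ParSh.Str V) (piece : Fin (𝓐.l + 1) → Subobject W) (bot : Subobject W)
      (h0 : piece 0 = ⊤) (ha : Antitone piece) (hb : ∀ j, bot ≤ piece j),
      motive 𝓐 ⟨𝓐.l, piece, bot, 𝓐.wt, h0, ha, hb, 𝓐.wt_strictMono, 𝓐.wt_nonneg, 𝓐.wt_lt_one⟩)
    (𝓐 : ParSh.Str V) (𝓑 : ParSh.Str W) (h : Set.range 𝓑.wt = Set.range 𝓐.wt) : motive 𝓐 𝓑 := by
  obtain ⟨l', piece, bot, wt', h0, ha, hb, hs, hn, h1⟩ := 𝓑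
  have hl : l' = 𝓐.l := len_eq 𝓐.wt_strictMono hs h
  subst hl
  have hwt : wt' = 𝓐.wt := (StrictMono.range_inj hs 𝓐.wt_strictMono).1 h
  subst hwt
  exact H 𝓐 piece bot h0 ha hb

end Weights

section At

variable {C : Type u} [Category.{v} C] [HasImages C] [HasBinaryCoproducts C] [HasInitial C] [InitialMonoClass C]

theorem at_wtX {V : C} (𝓐 : ParSh.Str V) (j : Fin (𝓐.l + 2)) : 𝓐.at (𝓐.wtX j) = 𝓐.pieceX j := by
  induction j using Fin.lastCases with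
  | last => rw [𝓐.wtX_last, 𝓐.pieceX_last]; exact 𝓐.at_eq_bot fun j => wt_lt_one 𝓐 j
  | cast j => rw [𝓐.wtX_castSucc, 𝓐.pieceX_castSucc]; exact 𝓐.at_eq_piece j le_rfl fun j' hj' => 𝓐.wt_strictMono hj'

omit [HasImages C] [HasBinaryCoproducts C] [HasInitial C] [InitialMonoClass C] in
theorem wtX_nonneg {V : C} (𝓐 : ParSh.Str V) (j : Fin (𝓐.l + 2)) : 0 ≤ 𝓐.wtX j := by
  induction j using Fin.lastCases with
  | last => rw [𝓐.wtX_last]; exact zero_le_one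
  | cast j => rw [𝓐.wtX_castSucc]; exact wt_nonneg 𝓐 j

omit [HasImages C] [HasBinaryCoproducts C] [HasInitial C] [InitialMonoClass C] in
theorem wtX_le_one {V : C} (𝓐 : ParSh.Str V) (j : Fin (𝓐.l + 2)) : 𝓐.wtX j ≤ 1 := by
  induction j using Fin.lastCases with
  | last => rw [𝓐.wtX_last]
  | cast j => rw [𝓐.wtX_castSucc]; exact (wt_lt_one 𝓐 j).le

end At

variable {k : Type u} [Field k] {X : Scheme.{u}} [X.Over (Spec (CommRingCat.of k))]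
  [IsProper (X ↘ Spec (CommRingCat.of k))] {L : X.Modules}

theorem core_le (hL : CohB1.IsAmple L) {V : X.Modules} (𝓐 : ParSh.Str V) (A B : Fin (𝓐.l + 2) → X.Modules)
    (f : ∀ j, A j ⟶ B j) (hf : ∀ j, Mono (f j)) (hA : ∀ j, Coh.IsCoh (A j)) (hB : ∀ j, Coh.IsCoh (B j))
    {PA PB : Fin (𝓐.l + 2) → Polynomial ℚ} (hPA : ∀ j, ShStab.IsHilbPoly k X L (A j) (PA j))
    (hPB : ∀ j, ShStab.IsHilbPoly k X L (B j) (PB j)) :
    ∃ M : ℕ, ∀ m : ℕ, M ≤ m → (parPoly 𝓐 PA).eval (m : ℝ) ≤ (parPoly 𝓐 PB).eval (m : ℝ) := by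
  have h : ∀ j, ∃ N : ℕ, ∀ m : ℕ, N ≤ m → (PA j).eval (m : ℚ) ≤ (PB j).eval (m : ℚ) := fun j => by
    have := hf j
    exact SatCmp.eval_le_of_mono (k := k) hL (f j) (hA j) (hB j) (hPA j) (hPB j)
  choose N hN using h
  exact ⟨Finset.univ.sup N, fun m hm => Ctx.parPoly_eval_le fun j =>
    hN j m ((Finset.le_sup (Finset.mem_univ j)).trans hm)⟩

theorem core_eq (hL : CohB1.IsAmple L) {V : X.Modules} (𝓐 : ParSh.Str V) (A B : Fin (𝓐.l + 2) → X.Modules)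
    (f : ∀ j, A j ⟶ B j) (hf : ∀ j, Mono (f j)) (hA : ∀ j, Coh.IsCoh (A j)) (hB : ∀ j, Coh.IsCoh (B j))
    {PA PB : Fin (𝓐.l + 2) → Polynomial ℚ} (hPA : ∀ j, ShStab.IsHilbPoly k X L (A j) (PA j))
    (hPB : ∀ j, ShStab.IsHilbPoly k X L (B j) (PB j))
    (heq : ∃ M : ℕ, ∀ m : ℕ, M ≤ m → (parPoly 𝓐 PB).eval (m : ℝ) ≤ (parPoly 𝓐 PA).eval (m : ℝ)) :
    (∀ j : Fin (𝓐.l + 1), IsIso (f j.succ)) ∧ (0 < 𝓐.wt 0 → IsIso (f 0)) := by
  have h : ∀ j, ∃ N : ℕ, ∀ m : ℕ, N ≤ m → (PA j).eval (m : ℚ) ≤ (PB j).eval (m : ℚ) := fun j => by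
    have := hf j
    exact SatCmp.eval_le_of_mono (k := k) hL (f j) (hA j) (hB j) (hPA j) (hPB j)
  choose N hN using h
  obtain ⟨M, hM⟩ := heq
  -- for large `m` all values agree
  set M' := max M (Finset.univ.sup N) with hM'
  have hle : ∀ (m : ℕ), M' ≤ m → ∀ j, (((PA j).eval (m : ℚ) : ℚ) : ℝ) ≤ (((PB j).eval (m : ℚ) : ℚ) : ℝ) := by
    intro m hm j
    have := hN j m ((Finset.le_sup (Finset.mem_univ j)).trans ((le_max_right _ _).trans hm))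
    exact_mod_cast this
  have key : ∀ (m : ℕ), M' ≤ m →
      𝓐.wt 0 * ((((PB 0).eval (m : ℚ) : ℚ) : ℝ) - (((PA 0).eval (m : ℚ) : ℚ) : ℝ)) = 0 ∧
      ∀ j : Fin (𝓐.l + 1), dw 𝓐 j * ((((PB j.succ).eval (m : ℚ) : ℚ) : ℝ) - (((PA j.succ).eval (m : ℚ) : ℚ) : ℝ)) = 0 := by
    intro m hm
    have h1 := hM m ((le_max_left _ _).trans hm)
    rw [parPoly_eval, parPoly_eval] at h1
    have h2 : 0 ≤ 𝓐.wt 0 * ((((PB 0).eval (m : ℚ) : ℚ) : ℝ) - (((PA 0).eval (m : ℚ) : ℚ) : ℝ)) :=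
      mul_nonneg (wt_nonneg 𝓐 0) (sub_nonneg.2 (hle m hm 0))
    have h3 : ∀ j ∈ (Finset.univ : Finset (Fin (𝓐.l + 1))),
        0 ≤ dw 𝓐 j * ((((PB j.succ).eval (m : ℚ) : ℚ) : ℝ) - (((PA j.succ).eval (m : ℚ) : ℚ) : ℝ)) := fun j _ =>
      mul_nonneg (dw_pos 𝓐 j).le (sub_nonneg.2 (hle m hm j.succ))
    have h4 : 𝓐.wt 0 * ((((PB 0).eval (m : ℚ) : ℚ) : ℝ) - (((PA 0).eval (m : ℚ) : ℚ) : ℝ)) +
        ∑ j : Fin (𝓐.l + 1), dw 𝓐 j * ((((PB j.succ).eval (m : ℚ) : ℚ) : ℝ) - (((PA j.succ).eval (m : ℚ) : ℚ) : ℝ)) ≤ 0 := by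
      simp only [mul_sub, Finset.sum_sub_distrib]
      linarith
    have h5 := Finset.sum_nonneg h3
    refine ⟨le_antisymm (by linarith) h2, ?_⟩
    have h6 : ∑ j : Fin (𝓐.l + 1), dw 𝓐 j * ((((PB j.succ).eval (m : ℚ) : ℚ) : ℝ) - (((PA j.succ).eval (m : ℚ) : ℚ) : ℝ)) = 0 :=
      le_antisymm (by linarith) h5
    intro j
    exact (Finset.sum_eq_zero_iff_of_nonneg h3).1 h6 j (Finset.mem_univ j)
  have fin : ∀ j, (∀ m : ℕ, M' ≤ m → (((PB j).eval (m : ℚ) : ℚ) : ℝ) - (((PA j).eval (m : ℚ) : ℚ) : ℝ) = 0) → IsIso (f j) := by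
    intro j hj
    have he : PB j = PA j := K847.PolyOrd.eq_of_eval_large M' fun m hm => by
      have := sub_eq_zero.1 (hj m hm)
      exact_mod_cast this
    have := hf j
    exact K847.StabBasic.isIso_of_hilbPoly_eq k hL (f j) (hA j) (hB j) (hPA j) (he ▸ hPB j)
  refine ⟨fun j => fin j.succ fun m hm => ?_, fun h0 => fin 0 fun m hm => ?_⟩
  · exact (mul_eq_zero.1 ((key m hm).2 j)).resolve_left (dw_pos 𝓐 j).ne'
  · exact (mul_eq_zero.1 (key m hm).1).resolve_left h0.ne'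

end K958.HomA
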