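import Groth.Agent.ParSh.K958.HomA

/-!
# Comparison of two structures with the same weights on one module
-/

set_option autoImplicit false
universe v u
open CategoryTheory CategoryTheory.Limits AlgebraicGeometry

namespace K958.HomB

open Groth.Agent K958.Abel K958.StrX K958.StrCoh K958.HomA W4swparbununimod

theorem eq_of_eval_large {P Q : Polynomial ℝ} (N : ℕ) (h : ∀ m : ℕ, N ≤ m → P.eval (m : ℝ) = Q.eval (m : ℝ)) :
    P = Q := by
  refine Polynomial.eq_of_infinite_eval_eq P Q ?_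
  refine Set.infinite_of_injective_forall_mem (f := fun m : ℕ => ((m + N : ℕ) : ℝ)) ?_ fun m => h _ (Nat.le_add_left _ _)
  intro a b hab
  have : ((a + N : ℕ) : ℝ) = ((b + N : ℕ) : ℝ) := hab
  have := Nat.cast_injective this
  omega

theorem parPoly_add {C : Type u} [Category.{v} C] {E : C} (𝓔 : ParSh.Str E) (A B D : Fin (𝓔.l + 2) → Polynomial ℚ)
    (h : ∀ j, D j = A j + B j) : parPoly 𝓔 D = parPoly 𝓔 A + parPoly 𝓔 B := by
  rw [parPoly_eq, parPoly_eq, parPoly_eq, h 0]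
  simp only [h, Polynomial.map_add, mul_add, Finset.sum_add_distrib]
  ring

theorem parPoly_zero {C : Type u} [Category.{v} C] {E : C} (𝓔 : ParSh.Str E) (A : Fin (𝓔.l + 2) → Polynomial ℚ)
    (h : ∀ j, A j = 0) : parPoly 𝓔 A = 0 := by
  rw [parPoly_eq]
  simp only [h, Polynomial.map_zero, mul_zero, Finset.sum_const_zero, add_zero]

variable {k : Type u} [Field k] {X : Scheme.{u}} [X.Over (Spec (CommRingCat.of k))]
  [IsProper (X ↘ Spec (CommRingCat.of k))] {L : X.Modules}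

/-- Two structures with the same weights on `V`, the real filtration of the first contained in that of the second. -/
theorem cmp (hL : CohB1.IsAmple L) {V : X.Modules} (𝓐 𝓑 : ParSh.Str V) (hw : Set.range 𝓑.wt = Set.range 𝓐.wt)
    (hle : ∀ a : ℝ, 0 ≤ a → a ≤ 1 → 𝓐.at a ≤ 𝓑.at a)
    (hA : ∀ j, Coh.IsCoh ((𝓐.pieceX j : Subobject V) : X.Modules))
    (hB : ∀ j, Coh.IsCoh ((𝓑.pieceX j : Subobject V) : X.Modules))
    {PA : Fin (𝓐.l + 2) → Polynomial ℚ} {PB : Fin (𝓑.l + 2) → Polynomial ℚ}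
    (hPA : ∀ j, ShStab.IsHilbPoly k X L ((𝓐.pieceX j : Subobject V) : X.Modules) (PA j))
    (hPB : ∀ j, ShStab.IsHilbPoly k X L ((𝓑.pieceX j : Subobject V) : X.Modules) (PB j)) :
    (∃ M : ℕ, ∀ m : ℕ, M ≤ m → (parPoly 𝓐 PA).eval (m : ℝ) ≤ (parPoly 𝓑 PB).eval (m : ℝ)) ∧
    ((∃ M : ℕ, ∀ m : ℕ, M ≤ m → (parPoly 𝓑 PB).eval (m : ℝ) ≤ (parPoly 𝓐 PA).eval (m : ℝ)) → 𝓐 = 𝓑) := by
  refine same_weights (motive := fun 𝓐 𝓑 =>
    ∀ (_ : ∀ a : ℝ, 0 ≤ a → a ≤ 1 → 𝓐.at a ≤ 𝓑.at a)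
      (_ : ∀ j, Coh.IsCoh ((𝓐.pieceX j : Subobject V) : X.Modules))
      (_ : ∀ j, Coh.IsCoh ((𝓑.pieceX j : Subobject V) : X.Modules))
      (PA : Fin (𝓐.l + 2) → Polynomial ℚ) (PB : Fin (𝓑.l + 2) → Polynomial ℚ)
      (_ : ∀ j, ShStab.IsHilbPoly k X L ((𝓐.pieceX j : Subobject V) : X.Modules) (PA j))
      (_ : ∀ j, ShStab.IsHilbPoly k X L ((𝓑.pieceX j : Subobject V) : X.Modules) (PB j)),
      (∃ M : ℕ, ∀ m : ℕ, M ≤ m → (parPoly 𝓐 PA).eval (m : ℝ) ≤ (parPoly 𝓑 PB).eval (m : ℝ)) ∧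
      ((∃ M : ℕ, ∀ m : ℕ, M ≤ m → (parPoly 𝓑 PB).eval (m : ℝ) ≤ (parPoly 𝓐 PA).eval (m : ℝ)) → 𝓐 = 𝓑))
    ?_ 𝓐 𝓑 hw hle hA hB PA PB hPA hPB
  clear hPA hPB PA PB hA hB hle hw 𝓐 𝓑
  intro 𝓐 piece bot h0 ha hb hle hA hB PA PB hPA hPB
  set 𝓑 : ParSh.Str V := ⟨𝓐.l, piece, bot, 𝓐.wt, h0, ha, hb, 𝓐.wt_strictMono, 𝓐.wt_nonneg, 𝓐.wt_lt_one⟩ with h𝓑
  have hpc : ∀ j : Fin (𝓐.l + 2), 𝓐.pieceX j ≤ 𝓑.pieceX j := by
    intro j
    have h1 := at_wtX 𝓐 j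
    have h2 : 𝓑.at (𝓐.wtX j) = 𝓑.pieceX j := at_wtX 𝓑 j
    rw [← h1, ← h2]
    exact hle _ (wtX_nonneg 𝓐 j) (wtX_le_one 𝓐 j)
  constructor
  · exact core_le hL 𝓐 (fun j => ((𝓐.pieceX j : Subobject V) : X.Modules)) (fun j => ((𝓑.pieceX j : Subobject V) : X.Modules))
      (fun j => Subobject.ofLE _ _ (hpc j)) (fun j => inferInstance) hA hB hPA hPB
  · intro heq
    have h1 := (core_eq hL 𝓐 (fun j => ((𝓐.pieceX j : Subobject V) : X.Modules)) (fun j => ((𝓑.pieceX j : Subobject V) : X.Modules))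
      (fun j => Subobject.ofLE _ _ (hpc j)) (fun j => inferInstance) hA hB hPA hPB heq).1
    have h2 : ∀ j : Fin (𝓐.l + 2), 𝓐.pieceX j = 𝓑.pieceX j := by
      intro j
      induction j using Fin.cases with
      | zero =>
        have h3 : 𝓑.pieceX (0 : Fin (𝓐.l + 2)) = ⊤ := pieceX_zero_eq_top 𝓑
        rw [pieceX_zero_eq_top, h3]
      | succ j =>
        have := h1 j
        refine le_antisymm (hpc j.succ) ?_
        exact Subobject.le_of_comm (inv (Subobject.ofLE _ _ (hpc j.succ))) (by simp)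
    have h3 : 𝓐.piece = piece := by
      funext j
      have h4 := h2 j.castSucc
      have h5 : 𝓑.pieceX j.castSucc = piece j := 𝓑.pieceX_castSucc j
      rw [𝓐.pieceX_castSucc, h5] at h4
      exact h4
    have h4 : 𝓐.bot = bot := by
      have h4 := h2 (Fin.last _)
      have h5 : 𝓑.pieceX (Fin.last (𝓐.l + 1)) = bot := 𝓑.pieceX_last
      rw [𝓐.pieceX_last, h5] at h4
      exact h4
    subst h3 h4
    rfl

end K958.HomB
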