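import Groth.Agent.ParSh.K958.Ctx2

/-!
# Semistable flag quotients
-/

set_option autoImplicit false
universe u
open CategoryTheory CategoryTheory.Limits AlgebraicGeometry Polynomial

namespace K958.QuotStab

open Groth.Agent K958.Abel K958.StrX K958.StrCoh W4swparbununimod

variable {k : Type u} [Field k] {X : Scheme.{u}} [X.Over (Spec (CommRingCat.of k))]
  [IsProper (X ↘ Spec (CommRingCat.of k))] {L : X.Modules}

theorem alpha_pos_of_ne {L : X.Modules} (hL : CohB1.IsAmple L) {B : X.Modules} {e : ℕ} (hB : Coh.IsCoh B)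
    (hp : ShStab.IsPure X B e) {H : ℚ[X]} (hH : ShStab.IsHilbPoly k X L B H) (hHa : StabCat.alpha e H ≠ 0) :
    0 < StabCat.alpha e H :=
  lt_of_le_of_ne (HilbPos.alpha_nonneg hL hB (Satur.dim_support_le_of_isPure hB hp) hH) hHa.symm

/-- For a coherent submodule `A` of a module `B` semistable of dimension `e`, the Hilbert polynomial of `A` is eventually
at most `(α_e(A)/α_e(B))·P(B)`. -/
theorem eventually_le (hL : CohB1.IsAmple L) {A B : X.Modules} (f : A ⟶ B) [Mono f] (hA : Coh.IsCoh A) {e : ℕ}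
    (hB : Coh.IsCoh B) (hp : ShStab.IsPure X B e)
    (hss : StabCat.IsSS Coh.IsCoh (ShStab.IsHilbPoly k X L) e B)
    {K H : ℚ[X]} (hK : ShStab.IsHilbPoly k X L A K) (hH : ShStab.IsHilbPoly k X L B H)
    (hHa : StabCat.alpha e H ≠ 0) :
    ∃ N : ℕ, ∀ m : ℕ, N ≤ m → K.eval (m : ℚ) ≤ (StabCat.alpha e K / StabCat.alpha e H) * H.eval (m : ℚ) := by
  by_cases hz : IsZero A
  · have h0 : K = 0 := HilbX.unique hK (HilbX.of_isZero hL.1 hz)
    subst h0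
    refine ⟨0, fun m _ => ?_⟩
    simp [StabCat.alpha]
  by_cases hiso : IsIso f
  · have h1 : K = H := HilbX.unique hK (HilbX.of_iso hL.1 (asIso f).symm hB hH)
    subst h1
    refine ⟨0, fun m _ => ?_⟩
    rw [div_self hHa, one_mul]
  obtain ⟨N, hN⟩ := hss A f inferInstance hA hz hiso K H hK hH
  refine ⟨N, fun m hm => ?_⟩
  have h := hN m hm
  rw [Polynomial.eval_smul, Polynomial.eval_smul, smul_eq_mul, smul_eq_mul] at h
  have hpos := alpha_pos_of_ne hL hB hp hH hHa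
  rw [div_mul_eq_mul_div, le_div_iff₀ hpos]
  linarith

theorem isSS_of_isSt {d : ℕ} {E : X.Modules} (h : StabCat.IsSt Coh.IsCoh (ShStab.IsHilbPoly k X L) d E) :
    StabCat.IsSS Coh.IsCoh (ShStab.IsHilbPoly k X L) d E := fun F ι h1 h2 h3 h4 pF pE h5 h6 => by
  obtain ⟨N, hN⟩ := h F ι h1 h2 h3 h4 pF pE h5 h6
  exact ⟨N, fun m hm => (hN m hm).le⟩

/-- The inclusion of the quotients of an induced filtration. -/
theorem exists_mono_quot {E W : X.Modules} (𝓔 : ParSh.Str E) (ι : W ⟶ E) (j : Fin (𝓔.l + 2)) :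
    ∃ f : cokernel ((𝓔.induced ι).pieceX j).arrow ⟶ cokernel (𝓔.pieceX j).arrow, Mono f := by
  rw [induced_pieceX]
  exact ⟨quotMap ι (𝓔.pieceX j), inferInstance⟩

/-- `par-P₁(W ⊂ E)(m) ≤ Par_W(m)` for large `m` when the flag quotients are semistable. -/
theorem parPolyOne_le (hL : CohB1.IsAmple L) {E : X.Modules} (hE : Coh.IsCoh E) (𝓔 : ParSh.Str E)
    (hcoh : ∀ j, Coh.IsCoh ((𝓔.pieceX j : Subobject E) : X.Modules)) {d : ℕ}
    {H : Fin (𝓔.l + 2) → ℚ[X]} (hH : ∀ j, ShStab.IsHilbPoly k X L (cokernel (𝓔.pieceX j).arrow) (H j))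
    (hHa : ∀ j : Fin (𝓔.l + 1), StabCat.alpha (d - 1) (H j.succ) ≠ 0)
    (hp : ∀ j : Fin (𝓔.l + 1), ShStab.IsPure X (cokernel (𝓔.pieceX j.succ).arrow) (d - 1))
    (hss : ∀ j : Fin (𝓔.l + 1), StabCat.IsSS Coh.IsCoh (ShStab.IsHilbPoly k X L) (d - 1) (cokernel (𝓔.pieceX j.succ).arrow))
    {W : X.Modules} (ι : W ⟶ E) [Mono ι] (hW : Coh.IsCoh W)
    {Q : ℚ[X]} (hQ : ShStab.IsHilbPoly k X L W Q) {QX QH : Fin (𝓔.l + 2) → ℚ[X]}
    (hQX : ∀ j, ShStab.IsHilbPoly k X L (((𝓔.induced ι).pieceX j : Subobject W) : X.Modules) (QX j))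
    (hQH : ∀ j, ShStab.IsHilbPoly k X L (cokernel ((𝓔.induced ι).pieceX j).arrow) (QH j)) :
    ∃ M : ℕ, ∀ m : ℕ, M ≤ m → (parPolyOne 𝓔 d Q QH H).eval (m : ℝ) ≤ (parPoly (𝓔.induced ι) QX).eval (m : ℝ) := by
  have hN := HilbX.isNoetherian k X
  have hcohW : ∀ j : Fin (𝓔.l + 2), Coh.IsCoh (((𝓔.induced ι).pieceX j : Subobject W) : X.Modules) := fun j =>
    Ctx.isCoh_induced hE hcoh ι hW j
  have key : ∀ j : Fin (𝓔.l + 1), ∃ N : ℕ, ∀ m : ℕ, N ≤ m → (QH j.succ).eval (m : ℚ) ≤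
      (StabCat.alpha (d - 1) (QH j.succ) / StabCat.alpha (d - 1) (H j.succ)) * (H j.succ).eval (m : ℚ) := by
    intro j
    obtain ⟨f, hf⟩ := exists_mono_quot 𝓔 ι j.succ
    exact eventually_le hL f (isCoh_cokernel_sub hW _ (hcohW j.succ)) (isCoh_cokernel_sub hE _ (hcoh j.succ))
      (hp j) (hss j) (hQH j.succ) (hH j.succ) (hHa j)
  choose N hN' using key
  refine ⟨Finset.univ.sup N, fun m hm => ?_⟩
  have hI : (parPoly (𝓔.induced ι) QX).eval (m : ℝ) = ((Q.eval (m : ℚ) : ℚ) : ℝ) -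
      ∑ j : Fin (𝓔.l + 1), dw 𝓔 j * (((QH j.succ).eval (m : ℚ) : ℚ) : ℝ) :=
    Ctx2.parPoly_quot_eval hL.1 hW (𝓔.induced ι) hcohW hQ hQX hQH m
  rw [hI, Ctx2.parPolyOne_eval]
  refine sub_le_sub_left (Finset.sum_le_sum fun j _ => mul_le_mul_of_nonneg_left ?_ (dw_pos 𝓔 j).le) _
  have h := hN' j m ((Finset.le_sup (Finset.mem_univ j)).trans hm)
  exact_mod_cast h

end K958.QuotStab
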