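import Groth.Agent.ParSh.K958.RealPoly
import Groth.Agent.ParSh.K958.Abel
import Groth.Prelude.Def_StabCat

/-!
# Limits of quotients of values of rational polynomials
-/

set_option autoImplicit false
open Polynomial Filter Topology

namespace K958.RealPoly

theorem tendsto_rat_div_pow {K : ℚ[X]} {e : ℕ} (h : K.natDegree ≤ e) :
    Tendsto (fun m : ℕ => ((K.eval (m : ℚ) : ℚ) : ℝ) / (m : ℝ) ^ e) atTop (𝓝 ((K.coeff e : ℚ) : ℝ)) := by
  have h1 := tendsto_div_pow (P := K.map (Rat.castHom ℝ)) (n := e) ((Polynomial.natDegree_map_le).trans h)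
  rw [Polynomial.coeff_map] at h1
  refine h1.congr fun m => ?_
  rw [← K958.Abel.rpoly_eval]

theorem tendsto_ratio {K H : ℚ[X]} {e : ℕ} (hK : K.natDegree ≤ e) (hH : H.natDegree ≤ e) (hc : H.coeff e ≠ 0) :
    Tendsto (fun n : ℕ => ((K.eval (n : ℚ) / H.eval (n : ℚ) : ℚ) : ℝ)) atTop
      (𝓝 ((StabCat.alpha e K / StabCat.alpha e H : ℚ) : ℝ)) := by
  have h := (tendsto_rat_div_pow hK).div (tendsto_rat_div_pow hH) (by exact_mod_cast hc)
  have e1 : ((K.coeff e : ℚ) : ℝ) / ((H.coeff e : ℚ) : ℝ) = ((StabCat.alpha e K / StabCat.alpha e H : ℚ) : ℝ) := by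
    unfold StabCat.alpha
    rw [← Rat.cast_div]
    congr 1
    field_simp
  rw [← e1]
  refine h.congr' ?_
  filter_upwards [eventually_ge_atTop 1] with n hn
  have hn' : ((n : ℝ) ^ e) ≠ 0 := by positivity
  simp only [Pi.div_apply]
  rw [div_div_div_cancel_right₀ hn', Rat.cast_div]

/-- Comparison of `A(n)·P(n)` with `B·Q(n)` for large `n`, where `A(n) → A`. -/
theorem le_of_eventually_le {A : ℕ → ℝ} {a B : ℝ} (hA : Tendsto A atTop (𝓝 a)) {P Q : ℚ[X]} {d : ℕ}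
    (hP : P.natDegree ≤ d) (hQ : Q.natDegree ≤ d) {N : ℕ}
    (h : ∀ n : ℕ, N ≤ n → A n * ((P.eval (n : ℚ) : ℚ) : ℝ) ≤ B * ((Q.eval (n : ℚ) : ℚ) : ℝ)) :
    a * (StabCat.alpha d P : ℝ) ≤ B * (StabCat.alpha d Q : ℝ) := by
  have h1 := hA.mul (tendsto_rat_div_pow hP)
  have h2 := (tendsto_rat_div_pow hQ).const_mul B
  have h3 := le_of_tendsto_of_tendsto h1 h2 (by
    filter_upwards [eventually_ge_atTop N, eventually_ge_atTop 1] with n hn hn1
    rw [← mul_div_assoc, ← mul_div_assoc]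
    exact div_le_div_of_nonneg_right (h n hn) (by positivity))
  unfold StabCat.alpha
  push_cast
  have h4 : (0 : ℝ) ≤ (d.factorial : ℝ) := by positivity
  nlinarith [mul_le_mul_of_nonneg_left h3 h4]

theorem eventually_lt {A : ℕ → ℝ} {a B : ℝ} (hA : Tendsto A atTop (𝓝 a)) {P Q : ℚ[X]} {d : ℕ}
    (hP : P.natDegree ≤ d) (hQ : Q.natDegree ≤ d)
    (h : a * (StabCat.alpha d P : ℝ) < B * (StabCat.alpha d Q : ℝ)) :
    ∃ N : ℕ, ∀ n : ℕ, N ≤ n → A n * ((P.eval (n : ℚ) : ℚ) : ℝ) < B * ((Q.eval (n : ℚ) : ℚ) : ℝ) := by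
  have h1 := hA.mul (tendsto_rat_div_pow hP)
  have h2 := (tendsto_rat_div_pow hQ).const_mul B
  have h3 : a * ((P.coeff d : ℚ) : ℝ) < B * ((Q.coeff d : ℚ) : ℝ) := by
    unfold StabCat.alpha at h
    push_cast at h
    have h4 : (0 : ℝ) < (d.factorial : ℝ) := by positivity
    refine lt_of_mul_lt_mul_left ?_ h4.le
    linarith
  obtain ⟨N, hN⟩ := ((h1.eventually_lt h2 h3).and (eventually_ge_atTop 1)).exists_forall_of_atTop
  refine ⟨N, fun n hn => ?_⟩
  obtain ⟨h5, h6⟩ := hN n hn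
  have h7 : (0 : ℝ) < (n : ℝ) ^ d := by positivity
  rw [← mul_div_assoc, ← mul_div_assoc] at h5
  exact (div_lt_div_iff_of_pos_right h7).1 h5

end K958.RealPoly
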