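import Groth.Agent.ParSh.K958.QuotStab

/-!
# Comparison with the saturation
-/

set_option autoImplicit false
universe v u
open CategoryTheory CategoryTheory.Limits AlgebraicGeometry

namespace K958.SatCmp

open Groth.Agent K958.Abel K958.StrX K958.StrCoh W4swparbununimod

theorem exists_mono_pull {C : Type u} [Category.{v} C] [Abelian C] {E T W : C} (𝓔 : ParSh.Str E) (κ : W ⟶ T) [Mono κ]
    (τ : T ⟶ E) (j : Fin (𝓔.l + 2)) :
    ∃ f : (((𝓔.induced (κ ≫ τ)).pieceX j : Subobject W) : C) ⟶ (((𝓔.induced τ).pieceX j : Subobject T) : C), Mono f := by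
  rw [induced_pieceX, induced_pieceX, Subobject.pullback_comp]
  refine ⟨Subobject.pullbackπ κ _, ?_⟩
  have hsq := Subobject.isPullback κ ((Subobject.pullback τ).obj (𝓔.pieceX j))
  have h : Mono (((Subobject.pullback κ).obj ((Subobject.pullback τ).obj (𝓔.pieceX j))).arrow ≫ κ) := mono_comp _ _
  rw [← hsq.w] at h
  exact mono_of_mono _ ((Subobject.pullback τ).obj (𝓔.pieceX j)).arrow

variable {k : Type u} [Field k] {X : Scheme.{u}} [X.Over (Spec (CommRingCat.of k))]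
  [IsProper (X ↘ Spec (CommRingCat.of k))] {L : X.Modules}

theorem eval_le_of_mono (hL : CohB1.IsAmple L) {A B : X.Modules} (f : A ⟶ B) [Mono f] (hA : Coh.IsCoh A)
    (hB : Coh.IsCoh B) {K H : Polynomial ℚ} (hK : ShStab.IsHilbPoly k X L A K) (hH : ShStab.IsHilbPoly k X L B H) :
    ∃ N : ℕ, ∀ m : ℕ, N ≤ m → K.eval (m : ℚ) ≤ H.eval (m : ℚ) := by
  have hS : (ShortComplex.mk f (cokernel.π f) (cokernel.condition f)).ShortExact :=
    { exact := ShortComplex.exact_of_g_is_cokernel _ (cokernelIsCokernel _) }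
  have hC : Coh.IsCoh (cokernel f) := Sga67.CohBasic.isCoh_cokernel f hA.1 hB
  obtain ⟨N, hN⟩ := HilbPos.eval_nonneg hL hC (HilbX.sub_isHilb hL.1 _ hS hA hB hC hK hH)
  refine ⟨N, fun m hm => ?_⟩
  have h := hN m hm
  rw [Polynomial.eval_sub] at h
  linarith

theorem exists_sat (hL : CohB1.IsAmple L) {E W : X.Modules} (hE : Coh.IsCoh E) {d : ℕ}
    (hpure : ShStab.IsPure X E d) (ι : W ⟶ E) [Mono ι] (hW : Coh.IsCoh W) :
    ∃ (T : X.Modules) (κ : W ⟶ T) (τ : T ⟶ E), Mono κ ∧ Mono τ ∧ κ ≫ τ = ι ∧ Coh.IsCoh T ∧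
      ShStab.IsPure X (cokernel τ) d ∧
      topologicalKrullDim (CohB1.support (cokernel κ)) < (d : WithBot ℕ∞) ∧
      ∀ Q Q' : Polynomial ℚ, ShStab.IsHilbPoly k X L W Q → ShStab.IsHilbPoly k X L T Q' →
        ∀ n, d ≤ n → Q.coeff n = Q'.coeff n := by
  have hN := HilbX.isNoetherian k X
  have e := Subobject.underlyingIso ι
  have hP : Coh.IsCoh ((Subobject.mk ι : Subobject E) : X.Modules) := Sga67.CohBasic.isCoh_of_iso (Subobject.underlyingIso ι).symm hW
  obtain ⟨T, h, hT, hdim, hpT⟩ := Satur.exists_saturation hE hpure (Subobject.mk ι) hP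
  have hκ : Mono (Subobject.ofMkLE ι T h) := inferInstance
  have hiso : Nonempty (cokernel (Subobject.ofMkLE ι T h) ≅ cokernel (Subobject.ofLE (Subobject.mk ι) T h)) := by
    refine ⟨cokernel.mapIso _ _ (Subobject.underlyingIso ι).symm (Iso.refl _) ?_⟩
    rw [Iso.refl_hom, Category.comp_id, ← cancel_mono T.arrow]
    simp
  obtain ⟨e'⟩ := hiso
  have hsub : CohB1.support (cokernel (Subobject.ofMkLE ι T h)) ⊆
      CohB1.support (cokernel (Subobject.ofLE (Subobject.mk ι) T h)) :=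
    CohqB.DevSupport.support_subset_of_mono e'.hom
  refine ⟨(T : X.Modules), Subobject.ofMkLE ι T h, T.arrow, hκ, inferInstance, Subobject.ofMkLE_arrow h, hT, hpT,
    lt_of_le_of_lt (Satur.dim_mono hsub) hdim, ?_⟩
  intro Q Q' hQ hQ' n hn
  have h1 := hilb_ofLE hL.1 h hP hT (HilbX.of_iso hL.1 (Subobject.underlyingIso ι).symm hW hQ) hQ'
  have h2 := HilbX.coeff_eq_zero hL.1 (isCoh_ofLE_cokernel h hP hT) hdim h1 hn
  rw [Polynomial.coeff_sub, sub_eq_zero] at h2
  exact h2.symm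

end K958.SatCmp
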