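import Groth.Agent.ParSh.K958.Abel
import Mathlib.CategoryTheory.Abelian.Exact
import Mathlib.CategoryTheory.Subobject.Limits
import Mathlib.CategoryTheory.Abelian.Basic

/-!
# Induced and coinduced filtrations in an abelian category
-/

set_option autoImplicit false
universe v u

open CategoryTheory CategoryTheory.Limits

namespace K958.StrX

open K958.Abel

variable {C : Type u} [Category.{v} C] [Abelian C]

section Sub

variable {E W G : C}

/-- The pullback of a subobject as a kernel: `0 → ι⁻¹P → W → E/P`. -/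
theorem pull_comp_zero (ι : W ⟶ E) (P : Subobject E) :
    ((Subobject.pullback ι).obj P).arrow ≫ ι ≫ cokernel.π P.arrow = 0 := by
  have h := (Subobject.isPullback ι P).w
  rw [← Category.assoc, ← h, Category.assoc, cokernel.condition, comp_zero]

/-- `ι⁻¹P` is the kernel of `W → E/P`. -/
noncomputable def pullIsKernel (ι : W ⟶ E) (P : Subobject E) :
    IsLimit (KernelFork.ofι ((Subobject.pullback ι).obj P).arrow (pull_comp_zero ι P)) := by
  have hP : IsLimit (KernelFork.ofι P.arrow (cokernel.condition P.arrow)) :=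
    Abelian.monoIsKernelOfCokernel (CokernelCofork.ofπ (cokernel.π P.arrow) (cokernel.condition P.arrow))
      (cokernelIsCokernel P.arrow)
  refine KernelFork.IsLimit.ofι' _ _ fun {A} k hk => ?_
  have hk' : (k ≫ ι) ≫ cokernel.π P.arrow = 0 := by rw [Category.assoc]; exact hk
  let t : A ⟶ (P : C) := (KernelFork.IsLimit.lift' hP (k ≫ ι) hk').1
  have ht : t ≫ P.arrow = k ≫ ι := (KernelFork.IsLimit.lift' hP (k ≫ ι) hk').2
  exact ⟨(Subobject.isPullback ι P).lift t k ht, (Subobject.isPullback ι P).lift_snd _ _ _⟩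

/-- The map `W/ι⁻¹P → E/P`. -/
noncomputable def quotMap (ι : W ⟶ E) (P : Subobject E) :
    cokernel ((Subobject.pullback ι).obj P).arrow ⟶ cokernel P.arrow :=
  cokernel.desc _ (ι ≫ cokernel.π P.arrow) (pull_comp_zero ι P)

@[reassoc (attr := simp)]
theorem π_quotMap (ι : W ⟶ E) (P : Subobject E) :
    cokernel.π ((Subobject.pullback ι).obj P).arrow ≫ quotMap ι P = ι ≫ cokernel.π P.arrow :=
  cokernel.π_desc _ _ _

instance mono_quotMap (ι : W ⟶ E) (P : Subobject E) : Mono (quotMap ι P) := by
  refine Preadditive.mono_of_cancel_zero _ fun {A} g hg => ?_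
  -- pull back along the epimorphism `W → W/ι⁻¹P`
  let p := cokernel.π ((Subobject.pullback ι).obj P).arrow
  let A' := pullback g p
  have : Epi (pullback.fst g p) := inferInstance
  have h1 : pullback.snd g p ≫ ι ≫ cokernel.π P.arrow = 0 := by
    rw [← π_quotMap, ← Category.assoc]
    change (pullback.snd g p ≫ p) ≫ quotMap ι P = 0
    rw [← pullback.condition, Category.assoc, hg, comp_zero]
  obtain ⟨t, ht⟩ := KernelFork.IsLimit.lift' (pullIsKernel ι P) _ h1
  have ht' : t ≫ ((Subobject.pullback ι).obj P).arrow = pullback.snd g p := ht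
  have h2 : pullback.fst g p ≫ g = 0 := by
    rw [pullback.condition, ← ht', Category.assoc]
    change t ≫ ((Subobject.pullback ι).obj P).arrow ≫ cokernel.π _ = 0
    rw [cokernel.condition, comp_zero]
  rw [← cancel_epi (pullback.fst g p), h2, comp_zero]

end Sub

/-- `0 → P → E → E/P → 0` for a subobject. -/
theorem shortExact_sub {E : C} (P : Subobject E) :
    (ShortComplex.mk P.arrow (cokernel.π P.arrow) (cokernel.condition _)).ShortExact :=
  { exact := ShortComplex.exact_of_g_is_cokernel _ (cokernelIsCokernel _)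
    mono_f := inferInstanceAs (Mono P.arrow)
    epi_g := inferInstanceAs (Epi (cokernel.π P.arrow)) }

/-- `0 → P → Q → Q/P → 0` for subobjects `P ≤ Q`. -/
theorem shortExact_ofLE {E : C} {P Q : Subobject E} (h : P ≤ Q) :
    (ShortComplex.mk (Subobject.ofLE P Q h) (cokernel.π (Subobject.ofLE P Q h))
      (cokernel.condition _)).ShortExact :=
  { exact := ShortComplex.exact_of_g_is_cokernel _ (cokernelIsCokernel _)
    mono_f := inferInstanceAs (Mono (Subobject.ofLE P Q h))
    epi_g := inferInstanceAs (Epi (cokernel.π (Subobject.ofLE P Q h))) }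

/-- `0 → i⁻¹P → P → im(P → G) → 0` for a short exact sequence `0 → F → E → G → 0` and a subobject `P` of `E`. -/
theorem shortExact_induced_coinduced {F E G : C} (i : F ⟶ E) (p : E ⟶ G) (w : i ≫ p = 0)
    (hS : (ShortComplex.mk i p w).ShortExact) (P : Subobject E) :
    ∃ w' : (Subobject.pullbackπ i P) ≫ factorThruImageSubobject (P.arrow ≫ p) = 0,
      (ShortComplex.mk (Subobject.pullbackπ i P) (factorThruImageSubobject (P.arrow ≫ p)) w').ShortExact := by
  have hi : Mono i := hS.mono_f
  have hsq := Subobject.isPullback i P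
  have w' : (Subobject.pullbackπ i P) ≫ factorThruImageSubobject (P.arrow ≫ p) = 0 := by
    rw [← cancel_mono (imageSubobject (P.arrow ≫ p)).arrow, Category.assoc, imageSubobject_arrow_comp,
      ← Category.assoc, hsq.w, Category.assoc, w, comp_zero, zero_comp]
  refine ⟨w', ?_⟩
  have hm : Mono (Subobject.pullbackπ i P) := by
    refine ⟨fun a b hab => ?_⟩
    rw [← cancel_mono ((Subobject.pullback i).obj P).arrow, ← cancel_mono i, Category.assoc, Category.assoc,
      ← hsq.w, ← Category.assoc, ← Category.assoc, hab]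
  have he : Epi (factorThruImageSubobject (P.arrow ≫ p)) := inferInstance
  refine { exact := ?_, mono_f := hm, epi_g := he }
  refine ShortComplex.exact_of_f_is_kernel _ ?_
  refine KernelFork.IsLimit.ofι' _ _ fun {A} a ha => ?_
  have ha' : (a ≫ P.arrow) ≫ p = 0 := by
    have h1 : a ≫ factorThruImageSubobject (P.arrow ≫ p) = 0 := ha
    have h2 : P.arrow ≫ p = factorThruImageSubobject (P.arrow ≫ p) ≫ (imageSubobject (P.arrow ≫ p)).arrow :=
      (imageSubobject_arrow_comp _).symm
    have h3 : a ≫ (P.arrow ≫ p) = (a ≫ factorThruImageSubobject (P.arrow ≫ p)) ≫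
        (imageSubobject (P.arrow ≫ p)).arrow := by
      rw [Category.assoc]; exact congrArg (a ≫ ·) h2
    rw [Category.assoc]
    refine h3.trans ?_
    rw [h1, zero_comp]
  have hk : IsLimit (KernelFork.ofι i w) := hS.fIsKernel
  obtain ⟨t, ht⟩ := KernelFork.IsLimit.lift' hk (a ≫ P.arrow) ha'
  have ht' : t ≫ i = a ≫ P.arrow := ht
  exact ⟨hsq.lift a t ht'.symm, hsq.lift_fst _ _ _⟩

variable {E : C} (𝓔 : ParSh.Str E)

theorem induced_pieceX {W : C} (ι : W ⟶ E) (j : Fin (𝓔.l + 2)) :
    (𝓔.induced ι).pieceX j = (Subobject.pullback ι).obj (𝓔.pieceX j) := by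
  induction j using Fin.lastCases with
  | last => rw [𝓔.pieceX_last]; exact (𝓔.induced ι).pieceX_last
  | cast j => rw [𝓔.pieceX_castSucc]; exact (𝓔.induced ι).pieceX_castSucc j

theorem coinduced_pieceX {G : C} (p : E ⟶ G) [Epi p] (j : Fin (𝓔.l + 2)) :
    (𝓔.coinduced p).pieceX j = imageSubobject ((𝓔.pieceX j).arrow ≫ p) := by
  induction j using Fin.lastCases with
  | last => rw [𝓔.pieceX_last]; exact (𝓔.coinduced p).pieceX_last
  | cast j => rw [𝓔.pieceX_castSucc]; exact (𝓔.coinduced p).pieceX_castSucc j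

theorem induced_dw {W : C} (ι : W ⟶ E) (j : Fin (𝓔.l + 1)) : dw (𝓔.induced ι) j = dw 𝓔 j := rfl

theorem coinduced_dw {G : C} (p : E ⟶ G) [Epi p] (j : Fin (𝓔.l + 1)) : dw (𝓔.coinduced p) j = dw 𝓔 j := rfl

end K958.StrX
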